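import Mathlib
import Cfsg.Agent.Lib.BlockT.NormalP
import Cfsg.Agent.Lib.Blocks.Defect2
import Cfsg.Agent.Lib.BlockP.RegPair

/-!
# Blocks covering an invariant block of a normal subgroup: Fong's theorem

For `N ⊴ G` and a `G`-invariant block `b` of `N`:

* `blockCoeff_covers`: the idempotent of `b` is the sum of the idempotents of the blocks of `G`
  covering `b`;
* `exists_good`: a defect class `n` of `b` whose `G`-class consists of a number prime to `p` of
  `N`-classes;
* `defect_le`, `exists_defect_ge`: the largest defect of a covering block;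
* `exists_fixed`: the intersection of a defect group of a covering block with `N` lies in a defect
  group of `b`.
-/

set_option linter.unusedSectionVars false
set_option autoImplicit false
set_option linter.style.haveILetI false

namespace Cfsg.Agent.Lib.BlockT.Fong

open Cfsg MonoidAlgebra
open Cfsg.Agent.Lib.Char.Basic Cfsg.Agent.Lib.Char.Ortho Cfsg.Agent.Lib.Char.Complete
open Cfsg.Agent.Lib.Char.Conj Cfsg.Agent.Lib.Char.Clifford Cfsg.Agent.Lib.Char.CliffordCorr
open Cfsg.Agent.Lib.Char.Induced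
open Cfsg.Agent.Lib.BlockT.CharSum Cfsg.Agent.Lib.BlockT.Normal Cfsg.Agent.Lib.BlockT.NormalP
open Cfsg.Agent.Lib.BlockT.SylowIn
open Cfsg.Agent.Lib.Blocks.Local Cfsg.Agent.Lib.Blocks.Central Cfsg.Agent.Lib.Blocks.Brauer
open Cfsg.Agent.Lib.Blocks.Defect Cfsg.Agent.Lib.Blocks.Defect2
open scoped ComplexConjugate

universe u

variable {G : Type u} [Group G] [Fintype G] {N : Subgroup G} (hN : N.Normal) [Fintype N]
  {M : Ideal AlgInt} {p : ℕ}

/-- The characters of `G` covering a set of characters of `N`. -/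
def covers (N : Subgroup G) [Fintype N] (b : Set (IrrCharacter N)) : Set (IrrCharacter G) :=
  {χ | ∃ θ ∈ b, classInner (fun n : N => (χ : G → ℂ) n) (θ : N → ℂ) ≠ 0}

/-- `b` is invariant under conjugation by `G`. -/
def IsInv (b : Set (IrrCharacter N)) : Prop := ∀ (t : G), ∀ θ ∈ b, conjIrr hN t θ ∈ b

theorem orbitSet_eq {b : Set (IrrCharacter N)} (hinv : IsInv hN b) : orbitSet hN b = b := by
  apply Set.Subset.antisymm
  · rintro ψ ⟨g, θ, hθ, rfl⟩
    exact hinv g θ hθ
  · exact subset_orbitSet hN b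

/-- Every constituent of a character covering an invariant block is in the block; the same holds
in the block of that character. -/
theorem mem_of_constituent [M.IsPrime] {b : Set (IrrCharacter N)} (hinv : IsInv hN b) (hb : IsPBlock M b)
    {χ : IrrCharacter G} (hχ : χ ∈ covers N b) {χ' : IrrCharacter G} (hχ' : χ' ∈ blockOf M (χ : G → ℂ))
    {ψ : IrrCharacter N} (hψ : classInner (fun n : N => (χ' : G → ℂ) n) (ψ : N → ℂ) ≠ 0) : ψ ∈ b := by
  obtain ⟨θ, hθ, hcon⟩ := hχ
  have := mem_orbitSet_of_constituent hN M (B := blockOf M (χ : G → ℂ)) ⟨χ, rfl⟩ hb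
    (mem_blockOf_self χ) hθ hcon hχ' hψ
  rwa [orbitSet_eq hN hinv] at this

theorem blockOf_subset_covers [M.IsPrime] {b : Set (IrrCharacter N)} (hinv : IsInv hN b) (hb : IsPBlock M b)
    {χ : IrrCharacter G} (hχ : χ ∈ covers N b) : blockOf M (χ : G → ℂ) ⊆ covers N b := by
  intro χ' hχ'
  obtain ⟨ψ, hψ⟩ := exists_constituent (N := N) χ'
  exact ⟨ψ, mem_of_constituent hN hinv hb hχ hχ' hψ, hψ⟩

/-- The idempotent of an invariant block, as an element of the center of the group algebra of `G`. -/
theorem blockCoeff_covers [M.IsPrime] {b : Set (IrrCharacter N)} (hinv : IsInv hN b) (hb : IsPBlock M b) (g : G) :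
    blockCoeff (covers N b) g = Cfsg.extendByZero N (blockCoeff b) g := by
  classical
  have := Cfsg.Agent.Lib.Char.Ortho.finite_irrCharacter (G := G)
  letI := Fintype.ofFinite (IrrCharacter G)
  have := Cfsg.Agent.Lib.Char.Ortho.finite_irrCharacter (G := N)
  letI := Fintype.ofFinite (IrrCharacter N)
  have hinv2 : ∀ g h : G, Cfsg.extendByZero N (blockCoeff b) (h * g * h⁻¹) =
      Cfsg.extendByZero N (blockCoeff b) g := by
    intro g h
    have := extendByZero_orbitCoeff_conj hN b g h
    rwa [orbitSet_eq hN hinv] at this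
  let z : Subalgebra.center ℂ (GA G) := ⟨ofFun (Cfsg.extendByZero N (blockCoeff b)), by
    rw [mem_center_iff]
    intro g h
    simp only [coeff_ofFun]
    exact hinv2 g h⟩
  have hz : z = idem (covers N b) := by
    apply eq_idem_of_omegaHom
    intro ψ
    rw [omegaHom_apply, lin_apply]
    have e1 : ∑ g : G, ((z : Subalgebra.center ℂ (GA G)) : GA G).coeff g * (ψ : G → ℂ) g =
        ∑ n : N, blockCoeff b n * (ψ : G → ℂ) n := sum_extendByZero_mul _ _
    rw [e1]
    obtain ⟨θ, hθ⟩ := exists_constituent (N := N) ψ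
    have hinv3 : ∀ (t : G) (n : N), blockCoeff b ⟨t * n * t⁻¹, hN.conj_mem n n.2 t⟩ = blockCoeff b n := by
      intro t n
      have := blockCoeff_orbitSet_conj hN b t n
      rw [orbitSet_eq hN hinv] at this
      rw [← this]
      congr 1
    rw [sum_mul_eq_of_constituent hN ψ.2 θ.2 hθ (blockCoeff b) hinv3, sum_blockCoeff_irr]
    by_cases hψ : ψ ∈ covers N b
    · rw [if_pos hψ, if_pos (mem_of_constituent hN hinv hb hψ (mem_blockOf_self ψ) hθ)]
    · rw [if_neg hψ, if_neg]
      intro h
      exact hψ ⟨θ, h, hθ⟩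
  have := congrArg (fun x : Subalgebra.center ℂ (GA G) => (x : GA G).coeff g) hz
  exact this.symm

/-- A union of blocks: some block has a nonzero coefficient modulo the local ideal. -/
theorem exists_block_coeff_notMem [M.IsPrime] {A : Set (IrrCharacter G)}
    (hA : ∀ ψ ∈ A, blockOf M (ψ : G → ℂ) ⊆ A) {g : G} (hg : ¬ MemLocalIdeal M (blockCoeff A g)) :
    ∃ χ ∈ A, ¬ MemLocalIdeal M (blockCoeff (blockOf M (χ : G → ℂ)) g) := by
  classical
  have := Cfsg.Agent.Lib.Char.Ortho.finite_irrCharacter (G := G)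
  letI := Fintype.ofFinite (IrrCharacter G)
  let s : Finset (IrrCharacter G) := Finset.univ.filter (· ∈ A)
  let t : Finset (Set (IrrCharacter G)) := s.image (fun ψ : IrrCharacter G => blockOf M (ψ : G → ℂ))
  have h1 : blockCoeff A g = ∑ S ∈ t, blockCoeff S g := by
    have h2 : ∀ S ∈ t, blockCoeff S g = (Nat.card G : ℂ)⁻¹ *
        ∑ ψ ∈ s.filter (fun ψ : IrrCharacter G => blockOf M (ψ : G → ℂ) = S),
          (ψ : G → ℂ) 1 * (starRingEnd ℂ) ((ψ : G → ℂ) g) := by
      intro S hS
      obtain ⟨ψ₀, hψ₀, rfl⟩ := Finset.mem_image.mp hS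
      rw [blockCoeff_eq_sum]
      congr 1
      simp only [s, Finset.sum_filter, Finset.filter_filter]
      refine Finset.sum_congr rfl fun φ _ => ?_
      by_cases hφ : φ ∈ blockOf M (ψ₀ : G → ℂ)
      · have h3 : φ ∈ A := hA ψ₀ (Finset.mem_filter.mp hψ₀).2 hφ
        have h4 : blockOf M (φ : G → ℂ) = blockOf M (ψ₀ : G → ℂ) := blockOf_eq_of_mem hφ
        rw [if_pos hφ, if_pos ⟨h3, h4⟩]
      · have h4 : blockOf M (φ : G → ℂ) ≠ blockOf M (ψ₀ : G → ℂ) := fun h4 =>
          hφ (by rw [← h4]; exact mem_blockOf_self φ)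
        rw [if_neg hφ, if_neg (fun h => h4 h.2)]
    rw [Finset.sum_congr rfl h2, ← Finset.mul_sum, Finset.sum_fiberwise_of_maps_to
      (fun ψ hψ => Finset.mem_image_of_mem _ hψ), blockCoeff_eq_sum, Finset.sum_filter]
  rw [h1] at hg
  obtain ⟨S, hS, hne⟩ := exists_notMem_of_sum_notMem _ _ hg
  obtain ⟨ψ₀, hψ₀, rfl⟩ := Finset.mem_image.mp hS
  exact ⟨ψ₀, (Finset.mem_filter.mp hψ₀).2, hne⟩

/-! ### Counting `N`-classes inside a `G`-class -/

section Count

variable [Fintype (ConjClasses N)]

open Classical in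
/-- The `N`-classes inside the `G`-class of `n`. -/
noncomputable def Ycl (N : Subgroup G) [Fintype N] [Fintype (ConjClasses N)] (n : N) :
    Finset (ConjClasses N) :=
  Finset.univ.filter (fun C : ConjClasses N => IsConj (n : G) ((C.out : N) : G))

/-- The induced central character as a sum over `N`-classes. -/
theorem inducedCentralChar_eq_sum_classes {θ : N → ℂ} (hθ : IsClassFunction N θ) (n : N) :
    inducedCentralChar N θ (n : G) = ∑ C ∈ Ycl N n, centralChar θ C.out := by
  classical
  rw [inducedCentralChar, finsum_mem_eq_sum_ite]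
  have h1 := Cfsg.Agent.Lib.BlockP.RegPair.sum_eq_sum_classes
    (fun h : N => if IsConj (n : G) (h : G) then θ h / θ 1 else 0) (by
      intro a c hac
      have hθac : θ a = θ c := by
        obtain ⟨u, rfl⟩ := isConj_iff.mp hac
        exact (hθ a u).symm
      have hc : IsConj (a : G) (c : G) := by
        obtain ⟨u, rfl⟩ := isConj_iff.mp hac
        exact isConj_iff.mpr ⟨(u : G), by simp⟩
      have : IsConj (n : G) (a : G) ↔ IsConj (n : G) (c : G) :=
        ⟨fun h => h.trans hc, fun h => h.trans hc.symm⟩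
      simp only [this, hθac])
  have e : ∑ i : N, (if i ∈ {h : N | IsConj (n : G) (h : G)} then θ i / θ 1 else 0) =
      ∑ h : N, if IsConj (n : G) (h : G) then θ h / θ 1 else 0 := rfl
  rw [e, h1, Ycl, Finset.sum_filter]
  refine Finset.sum_congr rfl fun C _ => ?_
  split_ifs with hC
  · rw [centralChar]
    ring
  · simp

include hN in
/-- The `N`-classes in a `G`-class have the same size. -/
theorem centralChar_one_eq {n : N} {C : ConjClasses N} (hC : C ∈ Ycl N n) :
    (Subgroup.centralizer ({(C.out : N)} : Set N)).index = (Subgroup.centralizer ({n} : Set N)).index := by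
  classical
  have h : IsConj (n : G) ((C.out : N) : G) := (Finset.mem_filter.mp hC).2
  obtain ⟨t, ht⟩ := isConj_iff.mp h
  have e : C.out = conjEquiv hN t n := by
    apply Subtype.ext
    rw [coe_conjEquiv, ht]
  rw [e, index_centralizer_mulEquiv]

include hN in
/-- The number of `N`-classes inside a `G`-class. -/
theorem card_class_eq (n : N) :
    (Subgroup.centralizer ({(n : G)} : Set G)).index =
      (Ycl N n).card * (Subgroup.centralizer ({n} : Set N)).index := by
  classical
  have hone : IsClassFunction N (fun _ : N => (1 : ℂ)) := fun _ _ => rfl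
  have h1 := inducedCentralChar_eq_sum_classes (θ := fun _ : N => (1 : ℂ)) hone n
  have h2 := inducedCentralChar_mul hN (fun _ : N => (1 : ℂ)) n
  have h3 : ∑ C ∈ Ycl N n, centralChar (fun _ : N => (1 : ℂ)) C.out =
      ((Ycl N n).card : ℂ) * ((Subgroup.centralizer ({n} : Set N)).index : ℂ) := by
    rw [← nsmul_eq_mul, ← Finset.sum_const]
    refine Finset.sum_congr rfl fun C hC => ?_
    rw [centralChar, centralChar_one_eq hN hC]
    simp
  rw [h1, h3] at h2
  have h4 : (∑ t : G, conjOn hN t (fun _ : N => (1 : ℂ)) n) / 1 = (Nat.card G : ℂ) := by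
    simp
  rw [h4] at h2
  have h5 := (Subgroup.centralizer ({(n : G)} : Set G)).card_mul_index
  have h6 : (Nat.card (Subgroup.centralizer ({(n : G)} : Set G)) : ℂ) ≠ 0 := by
    exact_mod_cast Nat.card_pos.ne'
  have h7 : ((Subgroup.centralizer ({(n : G)} : Set G)).index : ℂ) =
      ((Ycl N n).card : ℂ) * ((Subgroup.centralizer ({n} : Set N)).index : ℂ) := by
    apply mul_left_cancel₀ h6
    rw [mul_comm _ (((Ycl N n).card : ℂ) * _), h2, ← Nat.cast_mul, h5]
  exact_mod_cast h7

/-- The induced central character is congruent to `|Y| ω_θ(n)`. -/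
theorem inducedCentralChar_sub_mem [M.IsPrime] {b : Set (IrrCharacter N)} (hinv : IsInv hN b)
    (hb : IsPBlock M b) {θ : IrrCharacter N} (hθ : θ ∈ b) (n : N) :
    MemLocalIdeal M (inducedCentralChar N (θ : N → ℂ) (n : G) -
      ((Ycl N n).card : ℂ) * centralChar (θ : N → ℂ) n) := by
  classical
  rw [inducedCentralChar_eq_sum_classes (isClassFunction_of_isIrrCharacter θ.2), ← nsmul_eq_mul,
    ← Finset.sum_const, ← Finset.sum_sub_distrib]
  refine memLocalIdeal_sum _ _ fun C hC => ?_
  have h : IsConj (n : G) ((C.out : N) : G) := (Finset.mem_filter.mp hC).2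
  obtain ⟨t, ht⟩ := isConj_iff.mp h
  have e : C.out = conjEquiv hN t n := by
    apply Subtype.ext
    rw [coe_conjEquiv, ht]
  rw [e, ← centralChar_conjOn]
  have h1 : conjIrr hN t θ ∈ b := hinv t θ hθ
  have h2 : conjIrr hN t θ ∈ blockOf M (θ : N → ℂ) := by
    rw [← isPBlock_eq_blockOf hb hθ]
    exact h1
  have h3 : SameBlock M (θ : N → ℂ) (conjOn hN t (θ : N → ℂ)) := h2
  exact memLocalIdeal_sub_comm (h3 n)

end Count

/-- A class of `N` with the three required properties. -/
theorem exists_good [hp : Fact p.Prime] (hM : IsPModular p M) {b : Set (IrrCharacter N)} (hinv : IsInv hN b)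
    (hb : IsPBlock M b) {θ : IrrCharacter N} (hθ : θ ∈ b) {χ : IrrCharacter G}
    (hχ : classInner (fun n : N => (χ : G → ℂ) n) (θ : N → ℂ) ≠ 0) :
    ∃ n : N, ¬ MemLocalIdeal M (blockCoeff b n) ∧ ¬ MemLocalIdeal M (centralChar (θ : N → ℂ) n) ∧
      (Nat.card (Subgroup.centralizer ({(n : G)} : Set G))).factorization p =
        N.index.factorization p + (Nat.card (Subgroup.centralizer ({n} : Set N))).factorization p := by
  classical
  haveI := isPrime_of_pModular hM
  have := Cfsg.Agent.Lib.Char.Ortho.finite_irrCharacter (G := G)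
  letI := Fintype.ofFinite (IrrCharacter G)
  have := Cfsg.Agent.Lib.Char.Ortho.finite_irrCharacter (G := N)
  letI := Fintype.ofFinite (IrrCharacter N)
  letI := Fintype.ofFinite (ConjClasses G)
  letI := Fintype.ofFinite (ConjClasses N)
  have hχc : χ ∈ covers N b := ⟨θ, hθ, hχ⟩
  -- the formula `1 = ω_χ(e)`
  have h1 : omegaHom χ (idem (covers N b)) = 1 := by
    rw [omegaHom_idem, if_pos hχc]
  rw [omegaHom_eq_sum_classes] at h1
  have h2 : ∃ C : ConjClasses G, ¬ MemLocalIdeal M
      (((idem (covers N b) : Subalgebra.center ℂ (GA G)) : GA G).coeff C.out *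
        centralChar (χ : G → ℂ) C.out) := by
    by_contra hcon
    push Not at hcon
    apply one_notMemLocalIdeal (M := M)
    rw [← h1]
    exact memLocalIdeal_sum _ _ fun C _ => hcon C
  obtain ⟨C, hC⟩ := h2
  rw [coeff_idem, blockCoeff_covers hN hinv hb] at hC
  have hmem : C.out ∈ N := by
    by_contra hn
    rw [extendByZero_of_not_mem N _ hn, zero_mul] at hC
    exact hC memLocalIdeal_zero
  rw [extendByZero_of_mem N _ hmem] at hC
  set n : N := ⟨C.out, hmem⟩ with hn
  have hloc : MemLocalRing M (blockCoeff b n) := memLocalRing_blockCoeff hb n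
  have h3 : ¬ MemLocalIdeal M (blockCoeff b n) := fun h =>
    hC (memLocalIdeal_mul_right h (memLocalRing_of_isIntegral (isIntegral_centralChar χ _)))
  have h4 : ¬ MemLocalIdeal M (centralChar (χ : G → ℂ) (n : G)) := fun h =>
    hC (memLocalIdeal_mul_left hloc h)
  rw [centralChar_eq_of_constituent hN χ.2 θ.2 hχ n] at h4
  have h5 := inducedCentralChar_sub_mem hN (M := M) hinv hb hθ n
  have h6 : ¬ MemLocalIdeal M (((Ycl N n).card : ℂ) * centralChar (θ : N → ℂ) n) := fun h => by
    apply h4
    have := memLocalIdeal_add h5 h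
    simpa using this
  have h7 : ¬ MemLocalIdeal M (centralChar (θ : N → ℂ) n) := fun h =>
    h6 (memLocalIdeal_mul_left (memLocalRing_natCast _) h)
  have h8 : ¬ MemLocalIdeal M (((Ycl N n).card : ℂ)) := fun h =>
    h6 (memLocalIdeal_mul_right h (memLocalRing_of_isIntegral (isIntegral_centralChar θ _)))
  refine ⟨n, h3, h7, ?_⟩
  have hY : ¬ p ∣ (Ycl N n).card := fun h => h8 ((natCast_memLocalIdeal_iff hM _).mpr h)
  have hY0 : (Ycl N n).card ≠ 0 := fun h => hY (h ▸ dvd_zero p)
  have h9 := card_class_eq hN n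
  -- numerics
  have c1 := (Subgroup.centralizer ({(n : G)} : Set G)).card_mul_index
  have c2 := (Subgroup.centralizer ({n} : Set N)).card_mul_index
  have c3 := N.card_mul_index
  have ne1 : Nat.card (Subgroup.centralizer ({(n : G)} : Set G)) ≠ 0 := Nat.card_pos.ne'
  have ne2 : Nat.card (Subgroup.centralizer ({n} : Set N)) ≠ 0 := Nat.card_pos.ne'
  have ne3 : Nat.card N ≠ 0 := Nat.card_pos.ne'
  have ne4 : (Subgroup.centralizer ({(n : G)} : Set G)).index ≠ 0 := Subgroup.index_ne_zero_of_finite
  have ne5 : (Subgroup.centralizer ({n} : Set N)).index ≠ 0 := Subgroup.index_ne_zero_of_finite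
  have ne6 : N.index ≠ 0 := Subgroup.index_ne_zero_of_finite
  have f1 := congrArg (fun m => m.factorization p) c1
  have f2 := congrArg (fun m => m.factorization p) c2
  have f3 := congrArg (fun m => m.factorization p) c3
  have f4 := congrArg (fun m => m.factorization p) h9
  simp only [Nat.factorization_mul ne1 ne4, Nat.factorization_mul ne2 ne5, Nat.factorization_mul ne3 ne6,
    Nat.factorization_mul hY0 ne5, Finsupp.add_apply,
    Nat.factorization_eq_zero_of_not_dvd hY] at f1 f2 f3 f4
  omega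

/-- Upper bound for the defect of a block covering an invariant block. -/
theorem defect_le [hp : Fact p.Prime] (hM : IsPModular p M) {b : Set (IrrCharacter N)} (hinv : IsInv hN b)
    (hb : IsPBlock M b) {B : Set (IrrCharacter G)} (hB : IsPBlock M B)
    (hcov : ∃ χ ∈ B, ∃ θ ∈ b, classInner (fun n : N => (χ : G → ℂ) n) (θ : N → ℂ) ≠ 0) :
    blockDefect p B ≤ blockDefect p b + N.index.factorization p := by
  classical
  haveI := isPrime_of_pModular hM
  obtain ⟨χ₀, hχ₀, θ₀, hθ₀, hc₀⟩ := hcov
  have hne : B.Nonempty := ⟨χ₀, hχ₀⟩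
  obtain ⟨χ, hχ, hm⟩ := Cfsg.Agent.Lib.BlockP.Defect.exists_minExp p hne
  obtain ⟨θ, hθ⟩ := exists_constituent (N := N) χ
  have hχ' : χ ∈ blockOf M (χ₀ : G → ℂ) := by
    rw [← isPBlock_eq_blockOf hB hχ₀]
    exact hχ
  have hθb : θ ∈ b := mem_of_constituent hN hinv hb ⟨θ₀, hθ₀, hc₀⟩ hχ' hθ
  have hle1 := Cfsg.Agent.Lib.BlockP.Defect.minExp_le p hθb
  -- degrees
  have hdeg := deg_eq_of_constituent hN χ.2 θ.2 hθ
  obtain ⟨e, he⟩ := exists_nat_classInner (isCharacter_restrict N (isCharacter_of_isIrrCharacter χ.2))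
    (isCharacter_of_isIrrCharacter θ.2)
  have h1 : charDegree (χ : G → ℂ) = e * (inertia hN (θ : N → ℂ)).index * charDegree (θ : N → ℂ) := by
    have h2 := Cfsg.Agent.Lib.Char.Degree.charDegree_natCast (isCharacter_of_isIrrCharacter χ.2)
    have h3 := Cfsg.Agent.Lib.Char.Degree.charDegree_natCast (isCharacter_of_isIrrCharacter θ.2)
    rw [← h2, ← h3, he] at hdeg
    exact_mod_cast hdeg
  have hχ0 := Cfsg.Agent.Lib.Char.Degree.charDegree_pos χ.2
  have hθ0 := Cfsg.Agent.Lib.Char.Degree.charDegree_pos θ.2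
  have h4 : (charDegree (θ : N → ℂ)).factorization p ≤ (charDegree (χ : G → ℂ)).factorization p := by
    apply (Nat.factorization_le_iff_dvd hθ0.ne' hχ0.ne').mpr (Dvd.intro_left _ h1.symm) p
  -- a defect class of `b`
  obtain ⟨n, hn⟩ := exists_isDefectClass hb
  have h5 := Cfsg.Agent.Lib.BlockP.Defect.factorization_centralizer_add hM hb hn
  have c3 := N.card_mul_index
  have f3 := congrArg (fun m => m.factorization p) c3
  simp only [Nat.factorization_mul (Nat.card_pos (α := N)).ne' (Subgroup.index_ne_zero_of_finite (H := N)),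
    Finsupp.add_apply] at f3
  change (Nat.card G).factorization p - Cfsg.Agent.Lib.BlockP.Defect.minExp p B ≤
    (Nat.card N).factorization p - Cfsg.Agent.Lib.BlockP.Defect.minExp p b + _
  omega

/-- Lower bound: a covering block with large defect. -/
theorem exists_defect_ge [hp : Fact p.Prime] (hM : IsPModular p M) {b : Set (IrrCharacter N)} (hinv : IsInv hN b)
    (hb : IsPBlock M b) {θ : IrrCharacter N} (hθ : θ ∈ b) {χ : IrrCharacter G}
    (hχ : classInner (fun n : N => (χ : G → ℂ) n) (θ : N → ℂ) ≠ 0) :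
    ∃ χ' ∈ covers N b, blockDefect p b + N.index.factorization p ≤ blockDefect p (blockOf M (χ' : G → ℂ)) := by
  classical
  haveI := isPrime_of_pModular hM
  obtain ⟨n, h1, h2, h3⟩ := exists_good hN hM hinv hb hθ hχ
  have h4 := Cfsg.Agent.Lib.BlockP.Defect.blockDefect_le_factorization_centralizer hM hb hθ h2
  have h5 : ¬ MemLocalIdeal M (blockCoeff (covers N b) (n : G)) := by
    rw [blockCoeff_covers hN hinv hb, extendByZero_of_mem N _ n.2]
    exact h1
  obtain ⟨χ', hχ', h6⟩ := exists_block_coeff_notMem (fun ψ hψ => blockOf_subset_covers hN hinv hb hψ) h5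
  refine ⟨χ', hχ', ?_⟩
  have h7 := Cfsg.Agent.Lib.BlockP.Defect.factorization_centralizer_le_blockDefect hM ⟨χ', rfl⟩ h6
  omega

/-- A `p`-subgroup of `N` centralizing a nonzero coefficient of a covering block centralizes a
nonzero coefficient of `b`. -/
theorem exists_fixed [hp : Fact p.Prime] (hM : IsPModular p M) {b : Set (IrrCharacter N)} (hinv : IsInv hN b)
    (hb : IsPBlock M b) {B : Set (IrrCharacter G)} (hB : IsPBlock M B) (hcov : B ⊆ covers N b) {y : G}
    (hy : ¬ MemLocalIdeal M (blockCoeff B y)) (Q : Subgroup G) (hQ : IsPGroup p Q)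
    (hQy : ∀ q ∈ Q, q * y = y * q) :
    ∃ n : N, ¬ MemLocalIdeal M (blockCoeff b n) ∧ ∀ q ∈ Q, q * (n : G) = (n : G) * q := by
  classical
  haveI := isPrime_of_pModular hM
  have := Cfsg.Agent.Lib.Char.Ortho.finite_irrCharacter (G := G)
  letI := Fintype.ofFinite (IrrCharacter G)
  -- the product of idempotents
  have h1 : idem (covers N b) * idem B = idem B := by
    apply omegaHom_injective
    intro ψ
    rw [map_mul, omegaHom_idem, omegaHom_idem]
    by_cases hψ : ψ ∈ B
    · rw [if_pos hψ, if_pos (hcov hψ), one_mul]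
    · rw [if_neg hψ, mul_zero]
  have h2 : blockCoeff B y = ∑ g : G, blockCoeff (covers N b) g * blockCoeff B (g⁻¹ * y) := by
    have := congrArg (fun x : Subalgebra.center ℂ (GA G) => (x : GA G).coeff y) h1
    simp only [coeff_idem] at this
    rw [← this]
    exact coeff_mul_sum _ _ _
  letI := conjAct Q
  have hloc : ∀ g : G, MemLocalRing M (blockCoeff (covers N b) g * blockCoeff B (g⁻¹ * y)) := by
    intro g
    refine memLocalRing_mul ?_ (memLocalRing_blockCoeff hB _)
    rw [blockCoeff_covers hN hinv hb]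
    by_cases hg : g ∈ N
    · rw [extendByZero_of_mem N _ hg]
      exact memLocalRing_blockCoeff hb _
    · rw [extendByZero_of_not_mem N _ hg]
      exact memLocalRing_zero
  have key := sum_sub_sum_fixed_mem hM hQ (fun g : G => blockCoeff (covers N b) g * blockCoeff B (g⁻¹ * y))
    (by
      intro q g
      change blockCoeff (covers N b) ((q : G) * g * (q : G)⁻¹) *
        blockCoeff B (((q : G) * g * (q : G)⁻¹)⁻¹ * y) = _
      rw [blockCoeff_conj_invariant]
      congr 1
      have hqy : (q : G)⁻¹ * y = y * (q : G)⁻¹ := by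
        rw [inv_mul_eq_iff_eq_mul, ← mul_assoc, hQy q q.2, mul_assoc, mul_inv_cancel, mul_one]
      have : ((q : G) * g * (q : G)⁻¹)⁻¹ * y = (q : G) * (g⁻¹ * y) * (q : G)⁻¹ := by
        calc ((q : G) * g * (q : G)⁻¹)⁻¹ * y = (q : G) * g⁻¹ * ((q : G)⁻¹ * y) := by group
          _ = (q : G) * g⁻¹ * (y * (q : G)⁻¹) := by rw [hqy]
          _ = _ := by group
      rw [this, blockCoeff_conj_invariant])
    hloc (Finset.univ.filter (· ∈ Subgroup.centralizer (Q : Set G)))
    (by
      intro g
      simp only [Finset.mem_filter, Finset.mem_univ, true_and]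
      exact (conjAct_fixed_iff Q g).symm)
  rw [← h2] at key
  have h3 : ¬ MemLocalIdeal M (∑ g ∈ Finset.univ.filter (· ∈ Subgroup.centralizer (Q : Set G)),
      blockCoeff (covers N b) g * blockCoeff B (g⁻¹ * y)) := by
    intro h
    apply hy
    have := memLocalIdeal_add key h
    simpa using this
  obtain ⟨g, hg, hne⟩ := exists_notMem_of_sum_notMem _ _ h3
  have hgC : g ∈ Subgroup.centralizer (Q : Set G) := (Finset.mem_filter.mp hg).2
  have h4 : ¬ MemLocalIdeal M (blockCoeff (covers N b) g) := fun h =>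
    hne (memLocalIdeal_mul_right h (memLocalRing_blockCoeff hB _))
  rw [blockCoeff_covers hN hinv hb] at h4
  have hgN : g ∈ N := by
    by_contra hn
    rw [extendByZero_of_not_mem N _ hn] at h4
    exact h4 memLocalIdeal_zero
  rw [extendByZero_of_mem N _ hgN] at h4
  refine ⟨⟨g, hgN⟩, h4, fun q hq => ?_⟩
  exact Subgroup.mem_centralizer_iff.mp hgC q hq

end Cfsg.Agent.Lib.BlockT.Fong
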