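import Mathlib
import Cfsg.Agent.Lib.BlockT.Fong
import Cfsg.Agent.Lib.BlockT.Inflate2
import Cfsg.Agent.Lib.Blocks.Sections
import Cfsg.Agent.S0941

/-!
# Blocks with a normal defect group `P` in a group `G = P C_G(P)`

If `G` acts on `P` by inner automorphisms:

* `restrict_eq`: an irreducible character of `G` restricts to a multiple of one irreducible
  character `β` of `P`;
* `value_formula`: `χ(xy) = β(x) χ(y) / β(1)` for `x ∈ P`, `y ∈ C_G(P)`;
* `exists_scalar`: in a block with a unique member `θ` trivial on `P`, every member is a multiple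
  of `θ` on the `p`-regular elements.
-/

set_option linter.unusedSectionVars false
set_option autoImplicit false
set_option linter.style.haveILetI false
set_option linter.unusedVariables false

namespace Cfsg.Agent.Lib.BlockT.CenterP

open Cfsg MonoidAlgebra
open Cfsg.Agent.Lib.Char.Basic Cfsg.Agent.Lib.Char.Ortho Cfsg.Agent.Lib.Char.Complete
open Cfsg.Agent.Lib.Char.Conj Cfsg.Agent.Lib.Char.Clifford Cfsg.Agent.Lib.Char.CliffordCorr
open Cfsg.Agent.Lib.Char.Induced Cfsg.Agent.Lib.Char.Linear
open Cfsg.Agent.Lib.BlockT.CharSum Cfsg.Agent.Lib.BlockT.Normal Cfsg.Agent.Lib.BlockT.NormalP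
open Cfsg.Agent.Lib.BlockT.SylowIn Cfsg.Agent.Lib.BlockT.Inflate Cfsg.Agent.Lib.BlockT.Inflate2
open Cfsg.Agent.Lib.Blocks.Local Cfsg.Agent.Lib.Blocks.Central Cfsg.Agent.Lib.Blocks.Brauer
open Cfsg.Agent.Lib.Blocks.Weak Cfsg.Agent.Lib.Blocks.PPart
open Cfsg.Agent.Lib.Blocks.Defect Cfsg.Agent.Lib.Blocks.Defect2
open scoped ComplexConjugate

universe u

variable {G : Type u} [Group G] {P : Subgroup G}

/-- `G` acts on `P` by inner automorphisms of `P`. -/
def IsInnerAct (P : Subgroup G) : Prop := ∀ t : G, ∃ u ∈ P, ∀ x ∈ P, t * x * t⁻¹ = u * x * u⁻¹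

theorem normal_of_sup (hG : P ⊔ Subgroup.centralizer (P : Set G) = ⊤) : P.Normal := by
  have h1 : P ≤ Subgroup.normalizer (P : Set G) := Subgroup.le_normalizer
  have h2 : Subgroup.centralizer (P : Set G) ≤ Subgroup.normalizer (P : Set G) :=
    Subgroup.centralizer_le_normalizer _
  have h3 : Subgroup.normalizer (P : Set G) = ⊤ := top_le_iff.mp (hG ▸ sup_le h1 h2)
  exact Subgroup.normalizer_eq_top_iff.mp h3

theorem isInnerAct_of_sup (hG : P ⊔ Subgroup.centralizer (P : Set G) = ⊤) : IsInnerAct P := by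
  intro t
  haveI := normal_of_sup hG
  have h : t ∈ ((P ⊔ Subgroup.centralizer (P : Set G) : Subgroup G) : Set G) := by
    rw [hG]
    trivial
  rw [Subgroup.normal_mul] at h
  obtain ⟨u, hu, c, hc, rfl⟩ := Set.mem_mul.mp h
  refine ⟨u, hu, fun x hx => ?_⟩
  have hxc := Subgroup.mem_centralizer_iff.mp hc x hx
  calc u * c * x * (u * c)⁻¹ = u * (c * x) * c⁻¹ * u⁻¹ := by group
    _ = u * (x * c) * c⁻¹ * u⁻¹ := by rw [hxc]
    _ = u * x * u⁻¹ := by group

theorem index_centralizer_of_sup [Finite G] {p : ℕ} [hp : Fact p.Prime] (hpg : IsPGroup p P)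
    (hG : P ⊔ Subgroup.centralizer (P : Set G) = ⊤) :
    ∃ k : ℕ, (Subgroup.centralizer (P : Set G)).index = p ^ k := by
  haveI := normal_of_sup hG
  haveI : (Subgroup.centralizer (P : Set G)).Normal := Subgroup.normal_centralizer
  have h1 : (Subgroup.centralizer (P : Set G)).relIndex (P ⊔ Subgroup.centralizer (P : Set G)) =
      (Subgroup.centralizer (P : Set G)).relIndex P := Subgroup.relIndex_sup_right _ _
  rw [hG, Subgroup.relIndex_top_right] at h1
  obtain ⟨n, hn⟩ := IsPGroup.iff_card.mp hpg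
  have h2 : (Subgroup.centralizer (P : Set G)).relIndex P ∣ Nat.card P := by
    rw [Subgroup.relIndex]
    exact Subgroup.index_dvd_card _
  rw [hn, ← h1] at h2
  obtain ⟨k, -, hk⟩ := (Nat.dvd_prime_pow hp.out).mp h2
  exact ⟨k, hk⟩

section Values

variable [Fintype G] [Fintype P] {M : Ideal AlgInt} {p : ℕ}

theorem apply_conj_eq (hI : IsInnerAct P) {f : P → ℂ} (hf : IsClassFunction P f) (t : G) (x : P)
    (h : t * (x : G) * t⁻¹ ∈ P) : f ⟨t * x * t⁻¹, h⟩ = f x := by
  obtain ⟨u, hu, hux⟩ := hI t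
  have e : (⟨t * x * t⁻¹, h⟩ : P) = (⟨u, hu⟩ : P) * x * (⟨u, hu⟩ : P)⁻¹ := by
    apply Subtype.ext
    push_cast
    exact hux x x.2
  rw [e]
  exact hf _ _

theorem conjOn_eq (hN : P.Normal) (hI : IsInnerAct P) {f : P → ℂ} (hf : IsClassFunction P f) (t : G) :
    conjOn hN t f = f := by
  funext x
  rw [conjOn_apply]
  exact apply_conj_eq hI hf t x _

/-- An irreducible character of `G` restricts to a multiple of an irreducible character of `P`. -/
theorem restrict_eq (hN : P.Normal) (hI : IsInnerAct P) {χ : IrrCharacter G} {β : IrrCharacter P}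
    (hcon : classInner (fun n : P => (χ : G → ℂ) n) (β : P → ℂ) ≠ 0) :
    (fun n : P => (χ : G → ℂ) n) =
      classInner (fun n : P => (χ : G → ℂ) n) (β : P → ℂ) • (β : P → ℂ) := by
  classical
  have h := clifford_restrict hN χ.2 β.2 hcon
  have ho : orbitFinset hN (β : P → ℂ) = {(β : P → ℂ)} := by
    ext φ
    rw [mem_orbitFinset, Finset.mem_singleton]
    constructor
    · rintro ⟨g, rfl⟩
      exact conjOn_eq hN hI (isClassFunction_of_isIrrCharacter β.2) g
    · rintro rfl
      exact ⟨1, conjOn_eq hN hI (isClassFunction_of_isIrrCharacter β.2) 1⟩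
  rwa [ho, Finset.sum_singleton] at h

theorem classInner_smul_left' (c : ℂ) (f g : P → ℂ) : classInner (c • f) g = c * classInner f g := by
  simp only [classInner_def, Pi.smul_apply, smul_eq_mul, Finset.mul_sum]
  refine Finset.sum_congr rfl fun x _ => ?_
  ring

/-- The irreducible constituent is unique. -/
theorem constituent_unique (hN : P.Normal) (hI : IsInnerAct P) {χ : IrrCharacter G}
    {β β' : IrrCharacter P} (hcon : classInner (fun n : P => (χ : G → ℂ) n) (β : P → ℂ) ≠ 0)
    (hcon' : classInner (fun n : P => (χ : G → ℂ) n) (β' : P → ℂ) ≠ 0) : β = β' := by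
  have h := restrict_eq hN hI hcon
  rw [h, classInner_smul_left', classInner_irr β.2 β'.2] at hcon'
  by_contra hne
  rw [if_neg (fun e => hne (Subtype.ext e)), mul_zero] at hcon'
  exact hcon' rfl

theorem isCentral_of_class (hN : P.Normal) (hI : IsInnerAct P) {f : P → ℂ} (hf : IsClassFunction P f) :
    IsCentral (ofFun (Cfsg.extendByZero P f) : GA G) := by
  intro g h
  simp only [coeff_ofFun]
  by_cases hg : g ∈ P
  · have hg' : h * g * h⁻¹ ∈ P := hN.conj_mem g hg h
    rw [extendByZero_of_mem P _ hg, extendByZero_of_mem P _ hg']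
    exact apply_conj_eq hI hf h ⟨g, hg⟩ hg'
  · have hg' : h * g * h⁻¹ ∉ P := fun hc => hg (by
      have := hN.conj_mem _ hc h⁻¹
      simpa [mul_assoc] using this)
    rw [extendByZero_of_not_mem P _ hg, extendByZero_of_not_mem P _ hg']

/-- The values of `χ` on `P C_G(P)`. -/
theorem value_formula (hN : P.Normal) (hI : IsInnerAct P) {χ : IrrCharacter G} {β : IrrCharacter P}
    (hcon : classInner (fun n : P => (χ : G → ℂ) n) (β : P → ℂ) ≠ 0) {y : G}
    (hy : y ∈ Subgroup.centralizer (P : Set G)) (x : P) :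
    (χ : G → ℂ) ((x : G) * y) = (β : P → ℂ) x * (χ : G → ℂ) y / (β : P → ℂ) 1 := by
  classical
  have hβ1 := irr_one_ne_zero β.2
  have hχ1 := irr_one_ne_zero χ.2
  set e := classInner (fun n : P => (χ : G → ℂ) n) (β : P → ℂ) with he
  have hres := restrict_eq hN hI hcon
  have hres' : ∀ n : P, (χ : G → ℂ) n = e * (β : P → ℂ) n := fun n => congrFun hres n
  have hone : (χ : G → ℂ) 1 = e * (β : P → ℂ) 1 := by
    have := hres' 1
    simpa using this
  have hP0 : (Nat.card P : ℂ) ≠ 0 := Nat.cast_ne_zero.mpr Nat.card_pos.ne'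
  let f : P → ℂ := fun x => (χ : G → ℂ) ((x : G) * y)
  have hf : IsClassFunction P f := by
    intro x a
    simp only [f]
    have hay : (y : G) * (a : G) = (a : G) * y :=
      Subgroup.mem_centralizer_iff.mp hy a a.2 |>.symm
    have e1 : ((a * x * a⁻¹ : P) : G) * y = (a : G) * ((x : G) * y) * (a : G)⁻¹ := by
      push_cast
      have h2 : (a : G)⁻¹ * y = y * (a : G)⁻¹ := by
        rw [inv_mul_eq_iff_eq_mul, ← mul_assoc, ← hay, mul_assoc, mul_inv_cancel, mul_one]
      calc (a : G) * x * (a : G)⁻¹ * y = (a : G) * x * ((a : G)⁻¹ * y) := by group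
        _ = (a : G) * x * (y * (a : G)⁻¹) := by rw [h2]
        _ = _ := by group
    rw [e1]
    exact isClassFunction_of_isIrrCharacter χ.2 _ _
  set c := (χ : G → ℂ) y / (β : P → ℂ) 1 with hc
  have key : ∀ γ : IrrCharacter P, classInner f (γ : P → ℂ) = if (β : P → ℂ) = γ then c else 0 := by
    intro γ
    have hcf : IsClassFunction P (fun x : P => conj ((γ : P → ℂ) x)) := by
      intro x a
      simp only
      rw [isClassFunction_of_isIrrCharacter γ.2 x a]
    have hcen := isCentral_of_class hN hI hcf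
    have h1 := lin_central_mul χ.2 hcen (single y 1)
    rw [lin_mul_single, lin_single, one_mul] at h1
    have h2 : ∑ h : G, (ofFun (Cfsg.extendByZero P (fun x : P => conj ((γ : P → ℂ) x))) : GA G).coeff h *
        (χ : G → ℂ) (h * y) = ∑ x : P, conj ((γ : P → ℂ) x) * (χ : G → ℂ) ((x : G) * y) :=
      sum_extendByZero_mul (N := P) _ (fun h => (χ : G → ℂ) (h * y))
    have h3 : omega (χ : G → ℂ) (ofFun (Cfsg.extendByZero P (fun x : P => conj ((γ : P → ℂ) x))) : GA G) =
        (Nat.card P : ℂ) * (if (β : P → ℂ) = γ then 1 else 0) / (β : P → ℂ) 1 := by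
      rw [omega, lin_apply]
      have h4 : ∑ h : G, (ofFun (Cfsg.extendByZero P (fun x : P => conj ((γ : P → ℂ) x))) : GA G).coeff h *
          (χ : G → ℂ) h = ∑ x : P, conj ((γ : P → ℂ) x) * (χ : G → ℂ) x :=
        sum_extendByZero_mul (N := P) _ (fun h => (χ : G → ℂ) h)
      rw [h4]
      have h5 : ∑ x : P, conj ((γ : P → ℂ) x) * (χ : G → ℂ) x =
          e * ((Nat.card P : ℂ) * classInner (β : P → ℂ) (γ : P → ℂ)) := by
        rw [classInner_def, mul_inv_cancel_left₀ hP0, Finset.mul_sum]
        refine Finset.sum_congr rfl fun x _ => ?_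
        rw [hres' x]
        ring
      rw [h5, classInner_irr β.2 γ.2, hone]
      field_simp
    rw [h2, h3] at h1
    rw [classInner_def]
    have h6 : ∑ x : P, f x * conj ((γ : P → ℂ) x) =
        ∑ x : P, conj ((γ : P → ℂ) x) * (χ : G → ℂ) ((x : G) * y) :=
      Finset.sum_congr rfl fun x _ => mul_comm _ _
    rw [h6, h1, hc]
    split_ifs <;> field_simp <;> simp
  have h0 := eq_zero_of_classInner_irr_eq_zero (f := fun x : P => f x - c * (β : P → ℂ) x)
    (by
      intro x a
      simp only
      rw [hf x a, isClassFunction_of_isIrrCharacter β.2 x a])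
    (by
      intro γ hγ
      have h1 := key ⟨γ, hγ⟩
      have h2 := classInner_irr β.2 hγ
      rw [classInner_def] at h1 h2 ⊢
      have e2 : ∑ x : P, (f x - c * (β : P → ℂ) x) * conj (γ x) =
          ∑ x : P, f x * conj (γ x) - c * ∑ x : P, (β : P → ℂ) x * conj (γ x) := by
        rw [Finset.mul_sum, ← Finset.sum_sub_distrib]
        refine Finset.sum_congr rfl fun x _ => ?_
        ring
      rw [e2, mul_sub, h1, mul_left_comm, h2]
      split_ifs <;> simp)
  have h1 := congrFun h0 x
  simp only [Pi.zero_apply, sub_eq_zero, f] at h1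
  rw [h1, hc]
  ring

end Values

section Quot

variable [Fintype G] [Fintype P] {M : Ideal AlgInt} {p : ℕ}

/-- In a block with a unique member `θ` trivial on `P`, every member is a multiple of `θ` on the
`p`-regular elements. -/
theorem exists_scalar [hp : Fact p.Prime] (hM : IsPModular p M) (hN : P.Normal) (hpg : IsPGroup p P)
    (hC : ∃ k : ℕ, (Subgroup.centralizer (P : Set G)).index = p ^ k)
    {χ θ : IrrCharacter G} (hχθ : χ ∈ blockOf M (θ : G → ℂ)) (hθ : ∀ n : P, (θ : G → ℂ) n = (θ : G → ℂ) 1)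
    (huniq : ∀ θ' ∈ blockOf M (θ : G → ℂ), (∀ n : P, (θ' : G → ℂ) n = (θ' : G → ℂ) 1) → θ' = θ) :
    ∃ c : ℂ, ∀ y : G, ¬ p ∣ orderOf y → (χ : G → ℂ) y = c * (θ : G → ℂ) y := by
  classical
  haveI := hN
  haveI := isPrime_of_pModular hM
  have := Cfsg.Agent.Lib.Char.Ortho.finite_irrCharacter (G := G)
  letI := Fintype.ofFinite (IrrCharacter G)
  letI : Fintype (G ⧸ P) := Fintype.ofFinite _
  have hsurj : Function.Surjective (QuotientGroup.mk' P) := QuotientGroup.mk'_surjective P
  have hker : ∀ k ∈ (QuotientGroup.mk' P).ker, (θ : G → ℂ) k = (θ : G → ℂ) 1 := by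
    intro k hk
    rw [QuotientGroup.ker_mk'] at hk
    exact hθ ⟨k, hk⟩
  obtain ⟨φ, hφ, hθφ⟩ := isIrrCharacter_descend (QuotientGroup.mk' P) hsurj θ.2 hker
  let F : G ⧸ P → ℂ := fun w => ∑ g : G, if (QuotientGroup.mk g : G ⧸ P) = w ∧ ¬ p ∣ orderOf g then
    (χ : G → ℂ) g else 0
  have hF : IsClassFunction (G ⧸ P) F := by
    intro w a
    obtain ⟨t, rfl⟩ := QuotientGroup.mk_surjective a
    simp only [F]
    refine Fintype.sum_equiv (MulAut.conj t⁻¹).toEquiv _ _ fun g => ?_
    have e1 : (MulAut.conj t⁻¹).toEquiv g = t⁻¹ * g * t := by simp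
    rw [e1]
    have h1 : (QuotientGroup.mk g : G ⧸ P) = (QuotientGroup.mk t : G ⧸ P) * w * (QuotientGroup.mk t : G ⧸ P)⁻¹ ↔
        (QuotientGroup.mk (t⁻¹ * g * t) : G ⧸ P) = w := by
      rw [QuotientGroup.mk_mul, QuotientGroup.mk_mul, QuotientGroup.mk_inv]
      constructor
      · intro h
        rw [h]
        group
      · intro h
        rw [← h]
        group
    have h2 : orderOf (t⁻¹ * g * t) = orderOf g := by
      have := (MulAut.conj t⁻¹).orderOf_eq g
      simpa using this
    have h3 : (χ : G → ℂ) (t⁻¹ * g * t) = (χ : G → ℂ) g := by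
      have := isClassFunction_of_isIrrCharacter χ.2 g t⁻¹
      simpa using this
    simp only [h1, h2, h3]
  have hinner : ∀ τ : G ⧸ P → ℂ, classInner F τ = (Nat.card (G ⧸ P) : ℂ)⁻¹ *
      ∑ g : G, if ¬ p ∣ orderOf g then (χ : G → ℂ) g * conj (τ (QuotientGroup.mk g)) else 0 := by
    intro τ
    rw [classInner_def]
    congr 1
    simp only [F, Finset.sum_mul]
    rw [Finset.sum_comm]
    refine Finset.sum_congr rfl fun g _ => ?_
    rw [Finset.sum_eq_single (QuotientGroup.mk g : G ⧸ P)]
    · simp only [true_and]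
      split_ifs <;> simp
    · intro w _ hw
      rw [if_neg (fun h => hw h.1.symm), zero_mul]
    · intro h
      exact absurd (Finset.mem_univ _) h
  set c := classInner F φ with hc
  have hzero := eq_zero_of_classInner_irr_eq_zero (f := fun w : G ⧸ P => F w - c * φ w)
    (by
      intro x a
      simp only
      rw [hF x a, isClassFunction_of_isIrrCharacter hφ x a])
    (by
      intro τ hτ
      have e2 : classInner (fun w : G ⧸ P => F w - c * φ w) τ = classInner F τ - c * classInner φ τ := by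
        simp only [classInner_def]
        rw [mul_left_comm, ← mul_sub]
        congr 1
        rw [Finset.mul_sum, ← Finset.sum_sub_distrib]
        refine Finset.sum_congr rfl fun x _ => ?_
        ring
      rw [e2]
      by_cases hτφ : φ = τ
      · subst hτφ
        rw [classInner_irr hφ hφ, if_pos rfl, mul_one, sub_self]
      · rw [classInner_irr hφ hτ, if_neg hτφ, mul_zero, sub_zero, hinner]
        have hτ' : IsIrrCharacter G (τ ∘ QuotientGroup.mk' P) := Cfsg.Agent.Lib.Char.Conj.isIrrCharacter_comp _ hsurj hτ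
        have hnot : ¬ SameBlock M (χ : G → ℂ) (τ ∘ QuotientGroup.mk' P) := by
          intro hs
          have h1 : (⟨τ ∘ QuotientGroup.mk' P, hτ'⟩ : IrrCharacter G) ∈ blockOf M (θ : G → ℂ) :=
            sameBlock_trans hχθ hs
          have h2 := huniq _ h1 (by
            intro n
            change τ (QuotientGroup.mk (n : G)) = τ (QuotientGroup.mk (1 : G))
            rw [QuotientGroup.eq_one_iff (n : G) |>.mpr n.2, QuotientGroup.mk_one])
          apply hτφ
          funext w
          obtain ⟨g, rfl⟩ := QuotientGroup.mk_surjective w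
          have h3 := congrFun (congrArg (fun z : IrrCharacter G => (z : G → ℂ)) h2) g
          have h4 := congrFun hθφ g
          simp only at h3
          exact (h4.symm.trans h3.symm)
        have h5 := sum_regular_eq_zero hM (χ := χ) (ψ := ⟨τ ∘ QuotientGroup.mk' P, hτ'⟩) hnot
        have h6 : ∑ g : G, (if ¬ p ∣ orderOf g then (χ : G → ℂ) g * conj (τ (QuotientGroup.mk g)) else 0) = 0 := h5
        rw [h6, mul_zero])
  refine ⟨c, fun y hy => ?_⟩
  have h1 := congrFun hzero (QuotientGroup.mk y)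
  simp only [Pi.zero_apply, sub_eq_zero] at h1
  have h2 : F (QuotientGroup.mk y) = (χ : G → ℂ) y := by
    simp only [F]
    rw [Finset.sum_eq_single y]
    · rw [if_pos ⟨rfl, hy⟩]
    · intro g _ hg
      rw [if_neg]
      rintro ⟨h3, h4⟩
      apply h4
      have hxP : y⁻¹ * g ∈ P := QuotientGroup.eq.mp h3.symm
      have hyC := mem_centralizer_of_regular hM.1 hN hC hy
      have hcomm : Commute (y⁻¹ * g) y := (Subgroup.mem_centralizer_iff.mp hyC _ hxP)
      obtain ⟨k, hk⟩ := hpg ⟨y⁻¹ * g, hxP⟩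
      have hk' : (y⁻¹ * g) ^ p ^ k = 1 := by
        have := congrArg Subtype.val hk
        simpa using this
      have hne : y⁻¹ * g ≠ 1 := fun h => hg (by
        rw [inv_mul_eq_one] at h
        exact h.symm)
      have h5 := dvd_orderOf_mul hM.1 hcomm hk' hne hy
      have e5 : y⁻¹ * g * y = y⁻¹ * (g * y) := mul_assoc _ _ _
      have e6 : y⁻¹ * g * y = g := by
        rw [hcomm.eq]
        group
      rwa [e6] at h5
    · intro h
      exact absurd (Finset.mem_univ _) h
  rw [h2] at h1
  rw [h1]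
  have h3 := congrFun hθφ y
  simp only [Function.comp] at h3
  rw [h3]
  rfl

end Quot

end Cfsg.Agent.Lib.BlockT.CenterP
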