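import Mathlib

/-!
# Combinatorics of columns for homocyclic Sylow `2`-subgroups

A family of integer vectors of norm `4` with pairwise inner products `3` (or `4`) with a common entry
`-1` and at least five different members has a common support of three coordinates.
-/

set_option autoImplicit false
set_option linter.style.haveILetI false

namespace Cfsg.Agent.Lib.BlockT.HomoComb

section Sunflower

variable {X : Type*} [DecidableEq X]

theorem sunflower (F : Finset (Finset X)) (ι : X) (h4 : ∀ S ∈ F, S.card = 4) (hι : ∀ S ∈ F, ι ∈ S)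
    (h3 : ∀ S ∈ F, ∀ S' ∈ F, S ≠ S' → (S ∩ S').card = 3) (h5 : 5 ≤ F.card) :
    ∃ K : Finset X, K.card = 3 ∧ ι ∈ K ∧ ∀ S ∈ F, K ⊆ S := by
  obtain ⟨S₁, hS₁, S₂, hS₂, hne⟩ := Finset.one_lt_card.mp (show 1 < F.card by omega)
  set K := S₁ ∩ S₂ with hK
  have hKc : K.card = 3 := h3 _ hS₁ _ hS₂ hne
  have hιK : ι ∈ K := Finset.mem_inter.mpr ⟨hι _ hS₁, hι _ hS₂⟩
  refine ⟨K, hKc, hιK, ?_⟩
  by_contra hcon
  push Not at hcon
  obtain ⟨S₃, hS₃, hnot⟩ := hcon
  set U := S₁ ∪ S₂ with hU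
  have hUc : U.card = 5 := by
    have := Finset.card_union_add_card_inter S₁ S₂
    rw [h4 _ hS₁, h4 _ hS₂, ← hK, hKc, ← hU] at this
    omega
  have hK1 : K ⊆ S₁ := Finset.inter_subset_left
  have hK2 : K ⊆ S₂ := Finset.inter_subset_right
  -- general counting
  have hcount : ∀ S ∈ F, S ≠ S₁ → S ≠ S₂ → (S ∩ U).card + (S ∩ K).card = 6 := by
    intro S hS h1 h2
    have e1 := h3 _ hS _ hS₁ h1
    have e2 := h3 _ hS _ hS₂ h2
    have e3 := Finset.card_union_add_card_inter (S ∩ S₁) (S ∩ S₂)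
    have e4 : S ∩ S₁ ∪ S ∩ S₂ = S ∩ U := by
      rw [hU, Finset.inter_union_distrib_left]
    have e5 : S ∩ S₁ ∩ (S ∩ S₂) = S ∩ K := by
      ext x
      simp only [hK, Finset.mem_inter]
      tauto
    rw [e4, e5, e1, e2] at e3
    exact e3
  have hS₃1 : S₃ ≠ S₁ := fun h => hnot (h ▸ hK1)
  have hS₃2 : S₃ ≠ S₂ := fun h => hnot (h ▸ hK2)
  have hS₃K : (S₃ ∩ K).card ≤ 2 := by
    by_contra h
    push Not at h
    have h1 : (S₃ ∩ K).card ≤ K.card := Finset.card_le_card Finset.inter_subset_right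
    have h2 : S₃ ∩ K = K := Finset.eq_of_subset_of_card_le Finset.inter_subset_right (by omega)
    exact hnot (by rw [← h2]; exact Finset.inter_subset_left)
  have hS₃U : S₃ ⊆ U := by
    have h1 := hcount S₃ hS₃ hS₃1 hS₃2
    have h2 : S₃ ∩ U = S₃ := Finset.eq_of_subset_of_card_le Finset.inter_subset_left (by
      rw [h4 _ hS₃]
      omega)
    rw [← h2]
    exact Finset.inter_subset_right
  have hall : ∀ S ∈ F, S ⊆ U := by
    intro S hS
    by_contra hSU
    have h1 : S ≠ S₁ := fun h => hSU (h ▸ Finset.subset_union_left)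
    have h2 : S ≠ S₂ := fun h => hSU (h ▸ Finset.subset_union_right)
    have h3' : S ≠ S₃ := fun h => hSU (h ▸ hS₃U)
    have h5' := hcount S hS h1 h2
    have h6 : (S ∩ U).card < 4 := by
      rw [← h4 _ hS]
      apply Finset.card_lt_card
      refine ⟨Finset.inter_subset_left, fun h => hSU ?_⟩
      exact fun x hx => (Finset.mem_inter.mp (h hx)).2
    have h7 : (S ∩ K).card ≤ 3 := by
      rw [← hKc]
      exact Finset.card_le_card Finset.inter_subset_right
    have h8 : S ∩ K = K := Finset.eq_of_subset_of_card_le Finset.inter_subset_right (by omega)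
    have h9 : K ⊆ S := by
      rw [← h8]
      exact Finset.inter_subset_left
    have h10 : K ⊆ S ∩ U := by
      intro x hx
      exact Finset.mem_inter.mpr ⟨h9 hx, Finset.mem_union_left _ (hK1 hx)⟩
    have h11 : K = S ∩ U := Finset.eq_of_subset_of_card_le h10 (by omega)
    have h12 := h3 _ hS _ hS₃ h3'
    have h13 : S ∩ S₃ ⊆ S₃ ∩ K := by
      intro x hx
      obtain ⟨hx1, hx2⟩ := Finset.mem_inter.mp hx
      refine Finset.mem_inter.mpr ⟨hx2, ?_⟩
      rw [h11]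
      exact Finset.mem_inter.mpr ⟨hx1, hS₃U hx2⟩
    have h14 := Finset.card_le_card h13
    omega
  -- hence at most four members
  have hsub : F ⊆ (U.erase ι).image (fun t => U.erase t) := by
    intro S hS
    have h1 := hall S hS
    have h2 : (U \ S).card = 1 := by
      rw [Finset.card_sdiff_of_subset h1, hUc, h4 _ hS]
    obtain ⟨t, ht⟩ := Finset.card_eq_one.mp h2
    have htU : t ∈ U \ S := by
      rw [ht]
      exact Finset.mem_singleton_self t
    obtain ⟨htU1, htS⟩ := Finset.mem_sdiff.mp htU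
    refine Finset.mem_image.mpr ⟨t, Finset.mem_erase.mpr ⟨?_, htU1⟩, ?_⟩
    · intro h
      rw [h] at htS
      exact htS (hι _ hS)
    · ext x
      simp only [Finset.mem_erase]
      constructor
      · rintro ⟨hx1, hx2⟩
        by_contra hxS
        have : x ∈ U \ S := Finset.mem_sdiff.mpr ⟨hx2, hxS⟩
        rw [ht, Finset.mem_singleton] at this
        exact hx1 this
      · intro hx
        exact ⟨fun h => htS (h ▸ hx), h1 hx⟩
  have h6 := Finset.card_le_card hsub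
  have h7 : ((U.erase ι).image (fun t => U.erase t)).card ≤ (U.erase ι).card := Finset.card_image_le
  have hιU : ι ∈ U := Finset.mem_union_left _ (hι _ hS₁)
  rw [Finset.card_erase_of_mem hιU, hUc] at h7
  omega

end Sunflower

section Columns

variable {X I : Type*} [DecidableEq X] [DecidableEq I]

/-- The conclusion of the column analysis, in a form giving the explicit entries. -/
theorem columns (T : Finset X) (Is : Finset I) (c : I → X → ℤ) (ι : X) (hιT : ι ∈ T)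
    (hι : ∀ β ∈ Is, c β ι = -1)
    (hnorm : ∀ β ∈ Is, ∑ t ∈ T, c β t ^ 2 = 4)
    (hdot : ∀ β ∈ Is, ∀ γ ∈ Is, ∑ t ∈ T, c β t * c γ t = 3 ∨ ∑ t ∈ T, c β t * c γ t = 4)
    (fam : I → Fin 3 → I)
    (hfam : ∀ β ∈ Is, ∀ γ ∈ Is, ∑ t ∈ T, c β t * c γ t = 4 → ∃ a, γ = fam β a)
    (hcard : 13 ≤ Is.card) :
    ∃ ψ₂ ∈ T, ∃ ψ₃ ∈ T, ∃ δ₂ δ₃ : ℤ, ψ₂ ≠ ι ∧ ψ₃ ≠ ι ∧ ψ₂ ≠ ψ₃ ∧ (δ₂ = 1 ∨ δ₂ = -1) ∧
      (δ₃ = 1 ∨ δ₃ = -1) ∧ (∀ β ∈ Is, c β ψ₂ = δ₂ ∧ c β ψ₃ = δ₃) ∧
      ∀ β ∈ Is, ∃ χ ∈ T, ∃ ε : ℤ, χ ≠ ι ∧ χ ≠ ψ₂ ∧ χ ≠ ψ₃ ∧ (ε = 1 ∨ ε = -1) ∧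
        ∀ t ∈ T, c β t = if t = ι then -1 else if t = ψ₂ then δ₂ else if t = ψ₃ then δ₃ else
          if t = χ then ε else 0 := by
  classical
  -- entries
  have hent : ∀ β ∈ Is, ∀ t ∈ T, c β t = 0 ∨ c β t = 1 ∨ c β t = -1 := by
    intro β hβ t ht
    by_cases htι : t = ι
    · right; right
      rw [htι]
      exact hι β hβ
    have h1 := hnorm β hβ
    have h2 : c β ι ^ 2 + c β t ^ 2 ≤ ∑ s ∈ T, c β s ^ 2 := by
      have h3 : ({ι, t} : Finset X) ⊆ T := by
        intro s hs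
        simp only [Finset.mem_insert, Finset.mem_singleton] at hs
        rcases hs with rfl | rfl
        · exact hιT
        · exact ht
      have h4 := Finset.sum_le_sum_of_subset_of_nonneg (f := fun s => c β s ^ 2) h3
        (fun _ _ _ => sq_nonneg _)
      rw [Finset.sum_pair (Ne.symm htι)] at h4
      exact h4
    rw [hι β hβ, h1] at h2
    have h5 : c β t ^ 2 ≤ 3 := by nlinarith
    have h6 : c β t ≤ 1 := by nlinarith
    have h7 : -1 ≤ c β t := by nlinarith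
    omega
  set S : I → Finset X := fun β => T.filter (fun t => c β t ≠ 0) with hS
  have hsq : ∀ β ∈ Is, ∀ t ∈ T, c β t ^ 2 = if c β t ≠ 0 then 1 else 0 := by
    intro β hβ t ht
    rcases hent β hβ t ht with h | h | h <;> simp [h]
  have hScard : ∀ β ∈ Is, (S β).card = 4 := by
    intro β hβ
    have h1 := hnorm β hβ
    rw [Finset.sum_congr rfl (hsq β hβ), Finset.sum_boole] at h1
    have h2 : (((S β).card : ℕ) : ℤ) = 4 := h1
    exact_mod_cast h2
  have hιS : ∀ β ∈ Is, ι ∈ S β := by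
    intro β hβ
    refine Finset.mem_filter.mpr ⟨hιT, ?_⟩
    rw [hι β hβ]
    norm_num
  have hdiff : ∀ β ∈ Is, ∀ γ ∈ Is, ∑ t ∈ T, (c β t - c γ t) ^ 2 = 8 - 2 * ∑ t ∈ T, c β t * c γ t := by
    intro β hβ γ hγ
    have h1 := hnorm β hβ
    have h2 := hnorm γ hγ
    have h3 : ∑ t ∈ T, (c β t - c γ t) ^ 2 =
        ∑ t ∈ T, c β t ^ 2 + ∑ t ∈ T, c γ t ^ 2 - 2 * ∑ t ∈ T, c β t * c γ t := by
      rw [Finset.mul_sum, ← Finset.sum_add_distrib, ← Finset.sum_sub_distrib]
      exact Finset.sum_congr rfl fun t _ => by ring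
    rw [h3, h1, h2]
    norm_num
  -- dot product four
  have heq4 : ∀ β ∈ Is, ∀ γ ∈ Is, ∑ t ∈ T, c β t * c γ t = 4 → ∀ t ∈ T, c β t = c γ t := by
    intro β hβ γ hγ h t ht
    have h1 := hdiff β hβ γ hγ
    rw [h] at h1
    have h2 := (Finset.sum_eq_zero_iff_of_nonneg (fun s _ => sq_nonneg (c β s - c γ s))).mp
      (by rw [h1]; norm_num) t ht
    have h3 : c β t - c γ t = 0 := by simpa using h2
    omega
  -- dot product three
  have hag3 : ∀ β ∈ Is, ∀ γ ∈ Is, ∑ t ∈ T, c β t * c γ t = 3 → ∀ t ∈ S β ∩ S γ, c β t = c γ t := by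
    intro β hβ γ hγ h t ht
    obtain ⟨ht1, ht2⟩ := Finset.mem_inter.mp ht
    obtain ⟨htT, hne1⟩ := Finset.mem_filter.mp ht1
    obtain ⟨-, hne2⟩ := Finset.mem_filter.mp ht2
    have h1 := hdiff β hβ γ hγ
    rw [h] at h1
    have h2 := Finset.single_le_sum (f := fun s => (c β s - c γ s) ^ 2)
      (fun s _ => sq_nonneg _) htT
    rw [h1] at h2
    rcases hent β hβ t htT with h3 | h3 | h3 <;> rcases hent γ hγ t htT with h4 | h4 | h4 <;>
      simp_all
  have hcard3 : ∀ β ∈ Is, ∀ γ ∈ Is, ∑ t ∈ T, c β t * c γ t = 3 → (S β ∩ S γ).card = 3 := by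
    intro β hβ γ hγ h
    have h1 : ∀ t ∈ T, c β t * c γ t = if t ∈ S β ∩ S γ then 1 else 0 := by
      intro t ht
      split_ifs with h2
      · rw [← hag3 β hβ γ hγ h t h2, ← sq, hsq β hβ t ht, if_pos]
        exact (Finset.mem_filter.mp (Finset.mem_inter.mp h2).1).2
      · have h3 : c β t = 0 ∨ c γ t = 0 := by
          by_contra h4
          push Not at h4
          exact h2 (Finset.mem_inter.mpr ⟨Finset.mem_filter.mpr ⟨ht, h4.1⟩,
            Finset.mem_filter.mpr ⟨ht, h4.2⟩⟩)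
        rcases h3 with h3 | h3 <;> simp [h3]
    rw [Finset.sum_congr rfl h1, Finset.sum_boole] at h
    have h2 : (T.filter (fun t => t ∈ S β ∩ S γ)) = S β ∩ S γ := by
      ext t
      simp only [Finset.mem_filter, Finset.mem_inter, hS]
      tauto
    rw [h2] at h
    exact_mod_cast h
  -- the family of supports
  have hsame : ∀ β ∈ Is, ∀ γ ∈ Is, S β = S γ → ∑ t ∈ T, c β t * c γ t = 4 := by
    intro β hβ γ hγ h
    rcases hdot β hβ γ hγ with h1 | h1
    · have h2 := hcard3 β hβ γ hγ h1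
      rw [h, Finset.inter_self, hScard γ hγ] at h2
      omega
    · exact h1
  set F : Finset (Finset X) := Is.image S with hF
  have hFc : 5 ≤ F.card := by
    have h1 : Is.card ≤ 3 * F.card := by
      apply Finset.card_le_mul_card_image
      intro S₀ hS₀
      obtain ⟨β, hβ, rfl⟩ := Finset.mem_image.mp hS₀
      have h2 : Is.filter (fun γ => S γ = S β) ⊆ Finset.univ.image (fam β) := by
        intro γ hγ
        obtain ⟨hγ1, hγ2⟩ := Finset.mem_filter.mp hγ
        obtain ⟨a, ha⟩ := hfam β hβ γ hγ1 (hsame β hβ γ hγ1 hγ2.symm)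
        exact Finset.mem_image.mpr ⟨a, Finset.mem_univ _, ha.symm⟩
      have h3 := Finset.card_le_card h2
      have h4 : (Finset.univ.image (fam β)).card ≤ (Finset.univ : Finset (Fin 3)).card :=
        Finset.card_image_le
      simp only [Finset.card_univ, Fintype.card_fin] at h4
      omega
    omega
  obtain ⟨K, hKc, hιK, hKS⟩ := sunflower F ι
    (by
      intro S₀ hS₀
      obtain ⟨β, hβ, rfl⟩ := Finset.mem_image.mp hS₀
      exact hScard β hβ)
    (by
      intro S₀ hS₀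
      obtain ⟨β, hβ, rfl⟩ := Finset.mem_image.mp hS₀
      exact hιS β hβ)
    (by
      intro S₀ hS₀ S₁ hS₁ hne
      obtain ⟨β, hβ, rfl⟩ := Finset.mem_image.mp hS₀
      obtain ⟨γ, hγ, rfl⟩ := Finset.mem_image.mp hS₁
      rcases hdot β hβ γ hγ with h1 | h1
      · exact hcard3 β hβ γ hγ h1
      · exfalso
        apply hne
        ext t
        simp only [hS, Finset.mem_filter]
        constructor
        · rintro ⟨ht, h2⟩
          exact ⟨ht, by rwa [← heq4 β hβ γ hγ h1 t ht]⟩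
        · rintro ⟨ht, h2⟩
          exact ⟨ht, by rwa [heq4 β hβ γ hγ h1 t ht]⟩)
    hFc
  have hKsub : ∀ β ∈ Is, K ⊆ S β := fun β hβ => hKS _ (Finset.mem_image_of_mem S hβ)
  have hne : Is.Nonempty := Finset.card_pos.mp (by omega)
  obtain ⟨β₀, hβ₀⟩ := hne
  -- `K = {ι, ψ₂, ψ₃}`
  have hK2 : (K.erase ι).card = 2 := by
    rw [Finset.card_erase_of_mem hιK, hKc]
  obtain ⟨ψ₂, ψ₃, hne23, hKe⟩ := Finset.card_eq_two.mp hK2
  have hm2 : ψ₂ ∈ K.erase ι := by rw [hKe]; simp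
  have hm3 : ψ₃ ∈ K.erase ι := by rw [hKe]; simp
  obtain ⟨h2ι, h2K⟩ := Finset.mem_erase.mp hm2
  obtain ⟨h3ι, h3K⟩ := Finset.mem_erase.mp hm3
  have hKeq : K = {ι, ψ₂, ψ₃} := by
    rw [← hKe, Finset.insert_erase hιK]
  have hKT : ∀ t ∈ K, t ∈ T := fun t ht => (Finset.mem_filter.mp (hKsub β₀ hβ₀ ht)).1
  -- constancy on `K`
  have hconst : ∀ β ∈ Is, ∀ t ∈ K, c β t = c β₀ t := by
    intro β hβ t ht
    rcases hdot β hβ β₀ hβ₀ with h1 | h1
    · exact hag3 β hβ β₀ hβ₀ h1 t (Finset.mem_inter.mpr ⟨hKsub β hβ ht, hKsub β₀ hβ₀ ht⟩)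
    · exact heq4 β hβ β₀ hβ₀ h1 t (hKT t ht)
  have hsgn : ∀ t ∈ K, c β₀ t = 1 ∨ c β₀ t = -1 := by
    intro t ht
    have h1 := (Finset.mem_filter.mp (hKsub β₀ hβ₀ ht)).2
    rcases hent β₀ hβ₀ t (hKT t ht) with h | h | h
    · exact absurd h h1
    · exact Or.inl h
    · exact Or.inr h
  refine ⟨ψ₂, hKT _ h2K, ψ₃, hKT _ h3K, c β₀ ψ₂, c β₀ ψ₃, h2ι, h3ι, hne23, hsgn _ h2K, hsgn _ h3K,
    fun β hβ => ⟨hconst β hβ _ h2K, hconst β hβ _ h3K⟩, ?_⟩
  intro β hβ
  have h1 : (S β \ K).card = 1 := by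
    rw [Finset.card_sdiff_of_subset (hKsub β hβ), hScard β hβ, hKc]
  obtain ⟨χ, hχ⟩ := Finset.card_eq_one.mp h1
  have hχm : χ ∈ S β \ K := by
    rw [hχ]
    exact Finset.mem_singleton_self χ
  obtain ⟨hχ1, hχ2⟩ := Finset.mem_sdiff.mp hχm
  obtain ⟨hχT, hχ3⟩ := Finset.mem_filter.mp hχ1
  rw [hKeq] at hχ2
  simp only [Finset.mem_insert, Finset.mem_singleton, not_or] at hχ2
  obtain ⟨hχι, hχψ₂, hχψ₃⟩ := hχ2
  have hsgnχ : c β χ = 1 ∨ c β χ = -1 := by
    rcases hent β hβ χ hχT with h | h | h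
    · exact absurd h hχ3
    · exact Or.inl h
    · exact Or.inr h
  refine ⟨χ, hχT, c β χ, hχι, hχψ₂, hχψ₃, hsgnχ, ?_⟩
  intro t ht
  split_ifs with e1 e2 e3 e4
  · rw [e1]
    exact hι β hβ
  · rw [e2]
    exact hconst β hβ _ h2K
  · rw [e3]
    exact hconst β hβ _ h3K
  · rw [e4]
  · by_contra h0
    have h2 : t ∈ S β := Finset.mem_filter.mpr ⟨ht, h0⟩
    by_cases h3 : t ∈ K
    · rw [hKeq] at h3
      simp only [Finset.mem_insert, Finset.mem_singleton] at h3
      rcases h3 with h3 | h3 | h3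
      · exact e1 h3
      · exact e2 h3
      · exact e3 h3
    · have h4 : t ∈ S β \ K := Finset.mem_sdiff.mpr ⟨h2, h3⟩
      rw [hχ, Finset.mem_singleton] at h4
      exact e4 h4

/-- Sums against a column in the situation of `columns`. -/
theorem sum_column {R : Type*} [CommRing R] (T : Finset X) (c : X → ℤ) (ι ψ₂ ψ₃ χ : X) (hι : ι ∈ T)
    (h2 : ψ₂ ∈ T) (h3 : ψ₃ ∈ T) (hχ : χ ∈ T) (δ₂ δ₃ ε : ℤ) (h2ι : ψ₂ ≠ ι) (h3ι : ψ₃ ≠ ι) (h23 : ψ₂ ≠ ψ₃)
    (hχι : χ ≠ ι) (hχ2 : χ ≠ ψ₂) (hχ3 : χ ≠ ψ₃)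
    (hc : ∀ t ∈ T, c t = if t = ι then -1 else if t = ψ₂ then δ₂ else if t = ψ₃ then δ₃ else
      if t = χ then ε else 0) (F : X → R) :
    ∑ t ∈ T, (c t : R) * F t = - F ι + (δ₂ : R) * F ψ₂ + (δ₃ : R) * F ψ₃ + (ε : R) * F χ := by
  have hsub : ({ι, ψ₂, ψ₃, χ} : Finset X) ⊆ T := by
    intro s hs
    simp only [Finset.mem_insert, Finset.mem_singleton] at hs
    rcases hs with rfl | rfl | rfl | rfl <;> assumption
  rw [← Finset.sum_subset hsub]
  · rw [Finset.sum_insert, Finset.sum_insert, Finset.sum_insert, Finset.sum_singleton]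
    · rw [hc ι hι, hc ψ₂ h2, hc ψ₃ h3, hc χ hχ]
      simp only [if_true, if_neg h2ι, if_neg h3ι, if_neg h23.symm, if_neg hχι, if_neg hχ2, if_neg hχ3]
      push_cast
      ring
    · simpa using hχ3.symm
    · simp only [Finset.mem_insert, Finset.mem_singleton, not_or]
      exact ⟨h23, hχ2.symm⟩
    · simp only [Finset.mem_insert, Finset.mem_singleton, not_or]
      exact ⟨h2ι.symm, h3ι.symm, hχι.symm⟩
  · intro t ht hnot
    simp only [Finset.mem_insert, Finset.mem_singleton, not_or] at hnot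
    rw [hc t ht, if_neg hnot.1, if_neg hnot.2.1, if_neg hnot.2.2.1, if_neg hnot.2.2.2]
    simp

end Columns

section Numeric

theorem numeric_aux_mixed (a b : ℤ) (ha : 1 ≤ a) (hb : 15 ≤ b) (ha1 : (16 : ℤ) ∣ a - 1)
    (hb1 : (16 : ℤ) ∣ b + 1)
    (h : a * b * (b - a) + a ^ 2 + b ^ 2 + a - b + 6 * a * b = 0) : False := by
  by_cases hle : a ≤ b
  · have h1 : 0 ≤ a * b * (b - a) := by
      apply mul_nonneg
      · positivity
      · omega
    have h2 : b ≤ b ^ 2 := by nlinarith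
    have h3 : 0 < a * b := by positivity
    nlinarith [sq_nonneg a]
  · push Not at hle
    obtain ⟨d, hd⟩ : ∃ d, a = b + d := ⟨a - b, by ring⟩
    subst hd
    have hd0 : 0 < d := by omega
    have hd2 : d = 2 ∨ 18 ≤ d := by omega
    have key : b * (b + d) * (d - 8) = d * (d + 1) := by
      linear_combination -h
    rcases hd2 with rfl | hd2
    · have h1 : 0 < b * (b + 2) := by positivity
      nlinarith
    · have h1 : 15 * (15 + d) ≤ b * (b + d) := by nlinarith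
      have h2 : 0 < d - 8 := by omega
      have h3 : 15 * (15 + d) * (d - 8) ≤ b * (b + d) * (d - 8) :=
        mul_le_mul_of_nonneg_right h1 h2.le
      nlinarith

/-- The polynomial identity has only the solution `A = B = 1`. -/
theorem numeric (A B : ℤ) (hA : (16 : ℤ) ∣ A - 1) (hB : (16 : ℤ) ∣ B - 1)
    (h : A ^ 2 * B + A * B ^ 2 + A ^ 2 + B ^ 2 + A + B - 6 * A * B = 0) : A = 1 ∧ B = 1 := by
  have hA' : A = 1 ∨ 17 ≤ A ∨ A ≤ -15 := by omega
  have hB' : B = 1 ∨ 17 ≤ B ∨ B ≤ -15 := by omega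
  have pospos : ∀ A B : ℤ, 1 ≤ A → 17 ≤ B →
      A ^ 2 * B + A * B ^ 2 + A ^ 2 + B ^ 2 + A + B - 6 * A * B ≠ 0 := by
    intro A B hA hB h0
    have h1 : 0 < A * B := by positivity
    have h2 : 0 ≤ A * B * (A + B - 6) := by
      apply mul_nonneg h1.le
      omega
    nlinarith [sq_nonneg A, sq_nonneg B]
  have negneg : ∀ a b : ℤ, 15 ≤ a → 15 ≤ b →
      (-a) ^ 2 * (-b) + (-a) * (-b) ^ 2 + (-a) ^ 2 + (-b) ^ 2 + (-a) + (-b) - 6 * (-a) * (-b) ≠ 0 := by
    intro a b ha hb h0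
    have h1 : 0 < a * b := by positivity
    have h2 : a ^ 2 ≤ a ^ 2 * b := by nlinarith [sq_nonneg a]
    have h3 : b ^ 2 ≤ a * b ^ 2 := by nlinarith [sq_nonneg b]
    nlinarith
  have mixed : ∀ a b : ℤ, 1 ≤ a → 15 ≤ b → (16 : ℤ) ∣ a - 1 → (16 : ℤ) ∣ b + 1 →
      a ^ 2 * (-b) + a * (-b) ^ 2 + a ^ 2 + (-b) ^ 2 + a + (-b) - 6 * a * (-b) ≠ 0 := by
    intro a b ha hb h1 h2 h0
    exact numeric_aux_mixed a b ha hb h1 h2 (by linear_combination h0)
  rcases hA' with rfl | hA' | hA'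
  · rcases hB' with rfl | hB' | hB'
    · exact ⟨rfl, rfl⟩
    · exact absurd h (pospos 1 B le_rfl hB')
    · exfalso
      have := mixed 1 (-B) le_rfl (by omega) (by norm_num) (by omega)
      apply this
      rw [neg_neg]
      exact h
  · rcases hB' with rfl | hB' | hB'
    · exfalso
      apply pospos 1 A le_rfl hA'
      linear_combination h
    · exfalso
      apply pospos A B (by omega) hB'
      exact h
    · exfalso
      apply mixed A (-B) (by omega) (by omega) hA (by omega)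
      rw [neg_neg]
      exact h
  · rcases hB' with rfl | hB' | hB'
    · exfalso
      apply mixed 1 (-A) le_rfl (by omega) (by norm_num) (by omega)
      rw [neg_neg]
      linear_combination h
    · exfalso
      apply mixed B (-A) (by omega) (by omega) hB (by omega)
      rw [neg_neg]
      linear_combination h
    · exfalso
      apply negneg (-A) (-B) (by omega) (by omega)
      rw [neg_neg, neg_neg]
      exact h

end Numeric

end Cfsg.Agent.Lib.BlockT.HomoComb
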