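import Mathlib
import Cfsg.Agent.Lib.Blocks.Third
import Cfsg.Agent.Lib.Char.Linear
import Cfsg.Agent.Lib.BlockT.HomoComb

/-!
# The dual group of an abelian group and the columns of the principal `2`-block
-/

set_option autoImplicit false
set_option linter.style.haveILetI false
set_option linter.unusedSectionVars false

namespace Cfsg.Agent.Lib.BlockT.HomoDual

open Cfsg
open Cfsg.Agent.Lib.Char.Basic Cfsg.Agent.Lib.Char.Ortho Cfsg.Agent.Lib.Char.Complete
open Cfsg.Agent.Lib.Char.Linear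
open Cfsg.Agent.Lib.Blocks.Third (oneI oneI_apply)
open scoped ComplexConjugate

section Dual

variable {A : Type*} [Group A] [Fintype A] [Fintype (IrrCharacter A)]

theorem val_one (hc : ∀ a b : A, a * b = b * a) (β : IrrCharacter A) : (β : A → ℂ) 1 = 1 :=
  isIrr_deg_one_of_comm hc β.2

theorem val_mul (hc : ∀ a b : A, a * b = b * a) (β : IrrCharacter A) (a b : A) :
    (β : A → ℂ) (a * b) = (β : A → ℂ) a * (β : A → ℂ) b :=
  deg_one_mul (isCharacter_of_isIrrCharacter β.2) (val_one hc β) a b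

theorem val_mul_conj (hc : ∀ a b : A, a * b = b * a) (β : IrrCharacter A) (a : A) :
    (β : A → ℂ) a * conj ((β : A → ℂ) a) = 1 := by
  rw [← char_inv_eq_conj (isCharacter_of_isIrrCharacter β.2), ← val_mul hc, mul_inv_cancel, val_one hc]

theorem card_ne_zero' : (Nat.card A : ℂ) ≠ 0 := Nat.cast_ne_zero.mpr Nat.card_pos.ne'

open scoped Classical in
theorem sum_col (hc : ∀ a b : A, a * b = b * a) (a b : A) :
    ∑ β : IrrCharacter A, (β : A → ℂ) a * conj ((β : A → ℂ) b) =
      if a = b then (Nat.card A : ℂ) else 0 := by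
  rw [sum_irr_mul_conj]
  have h1 : Subgroup.centralizer ({b} : Set A) = ⊤ := by
    ext c
    simp [Subgroup.mem_centralizer_singleton_iff, hc c b]
  have h2 : IsConj a b ↔ a = b := by
    rw [isConj_iff]
    constructor
    · rintro ⟨c, hc'⟩
      rw [← hc', hc c a, mul_inv_cancel_right]
    · rintro rfl
      exact ⟨1, by simp⟩
  simp only [h2]
  split_ifs
  · rw [h1]
    simp
  · rfl

open scoped Classical in
theorem sum_row (β γ : IrrCharacter A) :
    ∑ a : A, (β : A → ℂ) a * conj ((γ : A → ℂ) a) = if β = γ then (Nat.card A : ℂ) else 0 := by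
  have h1 := classInner_irr β.2 γ.2
  rw [classInner_def] at h1
  have h2 := card_ne_zero' (A := A)
  have h3 : ∑ a : A, (β : A → ℂ) a * conj ((γ : A → ℂ) a) =
      (Nat.card A : ℂ) * ((Nat.card A : ℂ)⁻¹ * ∑ a : A, (β : A → ℂ) a * conj ((γ : A → ℂ) a)) := by
    rw [mul_inv_cancel_left₀ h2]
  rw [h3, h1]
  by_cases h : β = γ
  · rw [if_pos h, if_pos (congrArg Subtype.val h), mul_one]
  · rw [if_neg h, if_neg (fun h' => h (Subtype.ext h')), mul_zero]

open scoped Classical in
/-- The double sum for nontrivial characters. -/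
theorem sum_sub_one (β γ : IrrCharacter A) (hβ : β ≠ oneI A) (hγ : γ ≠ oneI A) :
    (Nat.card A : ℂ)⁻¹ * ∑ a : A, (conj ((β : A → ℂ) a) - 1) * ((γ : A → ℂ) a - 1) =
      (if γ = β then 1 else 0) + 1 := by
  have h2 := card_ne_zero' (A := A)
  have e1 : ∑ a : A, (γ : A → ℂ) a = 0 := by
    have := sum_row γ (oneI A)
    rw [if_neg hγ] at this
    simpa using this
  have e2 : ∑ a : A, conj ((β : A → ℂ) a) = 0 := by
    have := sum_row (oneI A) β
    rw [if_neg (Ne.symm hβ)] at this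
    simpa using this
  have e3 := sum_row γ β
  have e4 : ∑ a : A, (conj ((β : A → ℂ) a) - 1) * ((γ : A → ℂ) a - 1) =
      ∑ a : A, (γ : A → ℂ) a * conj ((β : A → ℂ) a) - ∑ a : A, conj ((β : A → ℂ) a) -
        ∑ a : A, (γ : A → ℂ) a + ∑ _a : A, (1 : ℂ) := by
    rw [← Finset.sum_sub_distrib, ← Finset.sum_sub_distrib, ← Finset.sum_add_distrib]
    exact Fintype.sum_congr _ _ fun a => by ring
  rw [e4, e3, e1, e2]
  simp only [Finset.sum_const, Finset.card_univ, nsmul_eq_mul, mul_one, sub_zero]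
  rw [← Nat.card_eq_fintype_card, mul_add, inv_mul_cancel₀ h2]
  split_ifs
  · rw [inv_mul_cancel₀ h2]
  · simp

theorem card_irr (hc : ∀ a b : A, a * b = b * a) : Fintype.card (IrrCharacter A) = Nat.card A := by
  classical
  have h1 := sum_col hc (1 : A) 1
  simp only [val_one hc, map_one, mul_one, Finset.sum_const, Finset.card_univ, nsmul_eq_mul, if_true] at h1
  exact_mod_cast h1

open scoped Classical in
/-- The sum over nontrivial characters at a nonidentity element. -/
theorem sum_erase_val (hc : ∀ a b : A, a * b = b * a) {x : A} (hx : x ≠ 1) :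
    ∑ β ∈ Finset.univ.erase (oneI A), (β : A → ℂ) x = -1 := by
  have h1 := sum_col hc x 1
  rw [if_neg hx] at h1
  simp only [val_one hc, map_one, mul_one] at h1
  rw [← Finset.add_sum_erase _ _ (Finset.mem_univ (oneI A)), oneI_apply] at h1
  linear_combination h1

open scoped Classical in
/-- Fourier inversion off the identity. -/
theorem inversion (hc : ∀ a b : A, a * b = b * a) (f : A → ℂ) {x : A} (hx : x ≠ 1) :
    ∑ β ∈ Finset.univ.erase (oneI A),
      ((Nat.card A : ℂ)⁻¹ * ∑ t : A, f t * (conj ((β : A → ℂ) t) - 1)) * (β : A → ℂ) x = f x := by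
  have h2 := card_ne_zero' (A := A)
  have key : ∀ t : A, ∑ β ∈ Finset.univ.erase (oneI A),
      (conj ((β : A → ℂ) t) - 1) * (β : A → ℂ) x = if x = t then (Nat.card A : ℂ) else 0 := by
    intro t
    have h1 := sum_col hc x t
    rw [← Finset.add_sum_erase _ _ (Finset.mem_univ (oneI A))] at h1
    simp only [oneI_apply, map_one, mul_one] at h1
    have h3 := sum_erase_val hc hx
    have e : ∑ β ∈ Finset.univ.erase (oneI A), (conj ((β : A → ℂ) t) - 1) * (β : A → ℂ) x =
        ∑ β ∈ Finset.univ.erase (oneI A), (β : A → ℂ) x * conj ((β : A → ℂ) t) -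
          ∑ β ∈ Finset.univ.erase (oneI A), (β : A → ℂ) x := by
      rw [← Finset.sum_sub_distrib]
      exact Finset.sum_congr rfl fun β _ => by ring
    rw [e, h3, ← h1]
    ring
  calc ∑ β ∈ Finset.univ.erase (oneI A),
      ((Nat.card A : ℂ)⁻¹ * ∑ t : A, f t * (conj ((β : A → ℂ) t) - 1)) * (β : A → ℂ) x
      = (Nat.card A : ℂ)⁻¹ * ∑ t : A, f t * ∑ β ∈ Finset.univ.erase (oneI A),
          (conj ((β : A → ℂ) t) - 1) * (β : A → ℂ) x := by
        simp only [Finset.mul_sum, Finset.sum_mul]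
        rw [Finset.sum_comm]
        refine Fintype.sum_congr _ _ fun t => Finset.sum_congr rfl fun β _ => by ring
    _ = (Nat.card A : ℂ)⁻¹ * ∑ t : A, f t * (if x = t then (Nat.card A : ℂ) else 0) := by
        simp only [key]
    _ = f x := by
        simp only [mul_ite, mul_zero]
        rw [Finset.sum_ite_eq, if_pos (Finset.mem_univ x)]
        field_simp

/-- The twist of a character by an automorphism. -/
noncomputable def twist (τ : MulAut A) (β : IrrCharacter A) : IrrCharacter A :=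
  ⟨fun a => (β : A → ℂ) (τ a), isIrrCharacter_comp τ.toMonoidHom τ.surjective β.2⟩

@[simp] theorem twist_apply (τ : MulAut A) (β : IrrCharacter A) (a : A) :
    (twist τ β : A → ℂ) a = (β : A → ℂ) (τ a) := rfl

theorem twist_mul (τ ρ : MulAut A) (β : IrrCharacter A) : twist (τ * ρ) β = twist ρ (twist τ β) := rfl

theorem twist_one (β : IrrCharacter A) : twist (1 : MulAut A) β = β := rfl

theorem twist_oneI (τ : MulAut A) : twist τ (oneI A) = oneI A := rfl

theorem twist_eq_oneI_iff (τ : MulAut A) (β : IrrCharacter A) :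
    twist τ β = oneI A ↔ β = oneI A := by
  constructor
  · intro h
    apply Subtype.ext
    funext a
    have := congrArg (fun χ : IrrCharacter A => (χ : A → ℂ) (τ.symm a)) h
    simpa using this
  · rintro rfl
    rfl

/-- A fixed point free automorphism fixes no nontrivial character. -/
theorem eq_oneI_of_twist_eq (hc : ∀ a b : A, a * b = b * a) (τ : MulAut A)
    (hfix : ∀ x : A, τ x = x → x = 1) {β : IrrCharacter A} (h : twist τ β = β) : β = oneI A := by
  have hinj : Function.Injective (fun x : A => τ x * x⁻¹) := by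
    intro x y hxy
    simp only at hxy
    have h1 : τ (x * y⁻¹) = x * y⁻¹ := by
      rw [map_mul, map_inv]
      have e : τ x * (τ y)⁻¹ = (τ x * x⁻¹) * (x * (τ y)⁻¹) := by group
      rw [e, hxy]
      have e2 : τ y * y⁻¹ * (x * (τ y)⁻¹) = (τ y * (τ y)⁻¹) * (y⁻¹ * x) := by
        rw [hc (y⁻¹) x, hc (τ y) (τ y)⁻¹]
        have := hc (τ y * y⁻¹) (x * (τ y)⁻¹)
        rw [this]
        have h3 : x * (τ y)⁻¹ * (τ y * y⁻¹) = x * y⁻¹ := by group
        rw [h3]
        simp [hc x (y⁻¹)]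
      rw [e2]
      simp [hc (y⁻¹) x]
    have h2 := hfix _ h1
    exact mul_inv_eq_one.mp h2
  have hsurj := Finite.surjective_of_injective hinj
  apply Subtype.ext
  funext u
  obtain ⟨x, rfl⟩ := hsurj u
  rw [oneI_apply]
  have h1 : (β : A → ℂ) (τ x) = (β : A → ℂ) x := by
    have := congrArg (fun χ : IrrCharacter A => (χ : A → ℂ) x) h
    simpa using this
  rw [val_mul hc, h1, ← val_mul hc, mul_inv_cancel, val_one hc]

end Dual

section Abstract

variable {G : Type*} [Group G] [Fintype G] [Fintype (IrrCharacter G)] (P : Subgroup G) [Fintype P]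
  [Fintype (IrrCharacter P)]

theorem exists_w (β : IrrCharacter P) (ζ : IrrCharacter G) :
    ∃ w : ℤ, (w : ℂ) = (Nat.card P : ℂ)⁻¹ * ∑ x : P, (ζ : G → ℂ) x * (conj ((β : P → ℂ) x) - 1) := by
  obtain ⟨n, hn⟩ := exists_nat_classInner (isCharacter_restrict P (isCharacter_of_isIrrCharacter ζ.2))
    (isCharacter_of_isIrrCharacter β.2)
  obtain ⟨k, hk⟩ := exists_nat_classInner (isCharacter_restrict P (isCharacter_of_isIrrCharacter ζ.2))
    (isCharacter_one (G := P))
  refine ⟨(n : ℤ) - k, ?_⟩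
  rw [classInner_def] at hn hk
  push_cast
  rw [← hn, ← hk, ← mul_sub, ← Finset.sum_sub_distrib]
  congr 1
  exact Fintype.sum_congr _ _ fun x => by simp [mul_sub]

/-- The integer `⟨ζ_P, β⟩ - ⟨ζ_P, 1⟩`. -/
noncomputable def wInt (β : IrrCharacter P) (ζ : IrrCharacter G) : ℤ :=
  Classical.choose (exists_w P β ζ)

theorem wInt_spec (β : IrrCharacter P) (ζ : IrrCharacter G) :
    (wInt P β ζ : ℂ) = (Nat.card P : ℂ)⁻¹ * ∑ x : P, (ζ : G → ℂ) x * (conj ((β : P → ℂ) x) - 1) :=
  Classical.choose_spec (exists_w P β ζ)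

theorem wInt_spec_conj (β : IrrCharacter P) (ζ : IrrCharacter G) :
    (wInt P β ζ : ℂ) = (Nat.card P : ℂ)⁻¹ * ∑ x : P, conj ((ζ : G → ℂ) x) * ((β : P → ℂ) x - 1) := by
  have h1 : (wInt P β ζ : ℂ) = conj (wInt P β ζ : ℂ) := (map_intCast (starRingEnd ℂ) _).symm
  rw [h1, wInt_spec, map_mul, map_inv₀, Complex.conj_natCast, map_sum]
  congr 1
  exact Fintype.sum_congr _ _ fun x => by simp

theorem wInt_oneI [DecidableEq (IrrCharacter P)] (β : IrrCharacter P) (hβ : β ≠ oneI P) :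
    wInt P β (oneI G) = -1 := by
  have h1 := wInt_spec P β (oneI G)
  have h2 := card_ne_zero' (A := P)
  have e2 : ∑ a : P, conj ((β : P → ℂ) a) = 0 := by
    classical
    have := sum_row (oneI P) β
    rw [if_neg (Ne.symm hβ)] at this
    simpa using this
  simp only [oneI_apply, one_mul, Finset.sum_sub_distrib, e2, Finset.sum_const, Finset.card_univ,
    nsmul_eq_mul, mul_one] at h1
  rw [← Nat.card_eq_fintype_card] at h1
  have h3 : (wInt P β (oneI G) : ℂ) = ((-1 : ℤ) : ℂ) := by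
    rw [h1]
    push_cast
    field_simp
    ring
  exact_mod_cast h3

variable {P}

variable (T : Finset (IrrCharacter G)) (τ : MulAut P)

/-- The block combination attached to `β`. -/
noncomputable def Xi (β : IrrCharacter P) (g : G) : ℂ := ∑ ζ ∈ T, (wInt P β ζ : ℂ) * (ζ : G → ℂ) g

variable {T τ}

theorem Xi_eq (β : IrrCharacter P) (g : G) :
    Xi (P := P) T β g = (Nat.card P : ℂ)⁻¹ * ∑ x : P, ((β : P → ℂ) x - 1) *
      ∑ ζ ∈ T, (ζ : G → ℂ) g * conj ((ζ : G → ℂ) x) := by
  simp only [Xi, wInt_spec_conj, Finset.mul_sum, Finset.sum_mul]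
  rw [Finset.sum_comm]
  refine Fintype.sum_congr _ _ fun x => Finset.sum_congr rfl fun ζ _ => by ring

/-- Vanishing on regular elements. -/
theorem Xi_regular (hc : ∀ a b : P, a * b = b * a)
    (hR : ∀ y : G, ¬ 2 ∣ orderOf y → ∀ x' : P, x' ≠ 1 →
      ∑ ζ ∈ T, (ζ : G → ℂ) y * conj ((ζ : G → ℂ) x') = 0) (β : IrrCharacter P) {y : G}
    (hy : ¬ 2 ∣ orderOf y) : Xi (P := P) T β y = 0 := by
  rw [Xi_eq]
  apply mul_eq_zero_of_right
  apply Finset.sum_eq_zero
  intro x _
  by_cases hx : x = 1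
  · rw [hx, val_one hc, sub_self, zero_mul]
  · rw [hR y hy x hx, mul_zero]

open scoped Classical in
/-- The values on `P`. -/
theorem Xi_coe (hc : ∀ a b : P, a * b = b * a)
    (hK : ∀ x x' : P, x ≠ 1 → x' ≠ 1 → ∑ ζ ∈ T, (ζ : G → ℂ) x * conj ((ζ : G → ℂ) x') =
      (Nat.card P : ℂ) * ∑ a : Fin 3, if x' = (τ ^ (a : ℕ)) x then 1 else 0)
    (hR : ∀ y : G, ¬ 2 ∣ orderOf y → ∀ x' : P, x' ≠ 1 →
      ∑ ζ ∈ T, (ζ : G → ℂ) y * conj ((ζ : G → ℂ) x') = 0) (β : IrrCharacter P) (x : P) :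
    Xi (P := P) T β x = ∑ a : Fin 3, ((β : P → ℂ) ((τ ^ (a : ℕ)) x) - 1) := by
  by_cases hx : x = 1
  · subst hx
    have h1 := Xi_regular (T := T) hc hR β (y := ((1 : P) : G)) (by simp)
    rw [h1]
    simp [val_one hc]
  have h2 := card_ne_zero' (A := P)
  rw [Xi_eq]
  have key : ∀ t : P, ((β : P → ℂ) t - 1) * ∑ ζ ∈ T, (ζ : G → ℂ) x * conj ((ζ : G → ℂ) t) =
      (Nat.card P : ℂ) * ∑ a : Fin 3, if t = (τ ^ (a : ℕ)) x then ((β : P → ℂ) t - 1) else 0 := by
    intro t
    by_cases ht : t = 1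
    · rw [ht, val_one hc, sub_self, zero_mul]
      simp
    · rw [hK x t hx ht]
      rw [mul_left_comm, Finset.mul_sum]
      congr 1
      refine Fintype.sum_congr _ _ fun a => ?_
      split_ifs <;> simp
  simp only [key]
  rw [← Finset.mul_sum, inv_mul_cancel_left₀ h2, Finset.sum_comm]
  refine Fintype.sum_congr _ _ fun a => ?_
  rw [Finset.sum_ite_eq', if_pos (Finset.mem_univ _)]

open scoped Classical in
/-- The Gram matrix of the columns. -/
theorem gram (hc : ∀ a b : P, a * b = b * a)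
    (hK : ∀ x x' : P, x ≠ 1 → x' ≠ 1 → ∑ ζ ∈ T, (ζ : G → ℂ) x * conj ((ζ : G → ℂ) x') =
      (Nat.card P : ℂ) * ∑ a : Fin 3, if x' = (τ ^ (a : ℕ)) x then 1 else 0)
    (hR : ∀ y : G, ¬ 2 ∣ orderOf y → ∀ x' : P, x' ≠ 1 →
      ∑ ζ ∈ T, (ζ : G → ℂ) y * conj ((ζ : G → ℂ) x') = 0) (β γ : IrrCharacter P)
    (hβ : β ≠ oneI P) (hγ : γ ≠ oneI P) :
    ((∑ ζ ∈ T, wInt P γ ζ * wInt P β ζ : ℤ) : ℂ) =
      ∑ a : Fin 3, ((if twist (τ ^ (a : ℕ)) β = γ then 1 else 0) + 1) := by
  push_cast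
  have e1 : ∑ ζ ∈ T, (wInt P γ ζ : ℂ) * (wInt P β ζ : ℂ) =
      (Nat.card P : ℂ)⁻¹ * ∑ x : P, (conj ((γ : P → ℂ) x) - 1) * Xi (P := P) T β x := by
    simp only [Xi, wInt_spec P γ, Finset.mul_sum, Finset.sum_mul]
    rw [Finset.sum_comm]
    refine Fintype.sum_congr _ _ fun x => Finset.sum_congr rfl fun ζ _ => ?_
    ring
  rw [e1]
  simp only [Xi_coe hc hK hR, Finset.mul_sum]
  rw [Finset.sum_comm]
  refine Fintype.sum_congr _ _ fun a => ?_
  have h1 := sum_sub_one γ (twist (τ ^ (a : ℕ)) β) hγ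
    (fun h => hβ ((twist_eq_oneI_iff _ _).mp h))
  rw [← h1, Finset.mul_sum]
  rfl

end Abstract

end Cfsg.Agent.Lib.BlockT.HomoDual
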