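import Mathlib
import Cfsg.Agent.Lib.BlockT.HomoDual
import Cfsg.Agent.Lib.Blocks.Weak
import Cfsg.Agent.Lib.Char.Degree

/-!
# The final character computation for homocyclic Sylow `2`-subgroups
-/

set_option autoImplicit false
set_option linter.style.haveILetI false
set_option linter.unusedSectionVars false

namespace Cfsg.Agent.Lib.BlockT.HomoAbs

open Cfsg
open Cfsg.Agent.Lib.Char.Basic Cfsg.Agent.Lib.Char.Ortho Cfsg.Agent.Lib.Char.Complete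
open Cfsg.Agent.Lib.Char.Linear Cfsg.Agent.Lib.Char.Degree
open Cfsg.Agent.Lib.Blocks.Third (oneI oneI_apply)
open Cfsg.Agent.Lib.BlockT.HomoDual Cfsg.Agent.Lib.BlockT.HomoComb
open scoped ComplexConjugate

section Twist

variable {A : Type*} [Group A] [Fintype A] [Fintype (IrrCharacter A)]

theorem twist_pow_succ (τ : MulAut A) (k : ℕ) (β : IrrCharacter A) :
    twist τ (twist (τ ^ k) β) = twist (τ ^ (k + 1)) β := by
  rw [pow_succ, twist_mul]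

theorem twist_ne (hc : ∀ a b : A, a * b = b * a) (τ : MulAut A) (hfix : ∀ x : A, τ x = x → x = 1)
    {β : IrrCharacter A} (hβ : β ≠ oneI A) (k : ℕ) :
    twist (τ ^ (k + 1)) β ≠ twist (τ ^ k) β := by
  intro h
  rw [← twist_pow_succ] at h
  have h2 := eq_oneI_of_twist_eq hc τ hfix h
  exact hβ ((twist_eq_oneI_iff _ _).mp h2)

/-- The three twists are pairwise distinct. -/
theorem twists_ne (hc : ∀ a b : A, a * b = b * a) (τ : MulAut A) (h3 : τ ^ 3 = 1)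
    (hfix : ∀ x : A, τ x = x → x = 1) {β : IrrCharacter A} (hβ : β ≠ oneI A) :
    twist (τ ^ 0) β ≠ twist (τ ^ 1) β ∧ twist (τ ^ 1) β ≠ twist (τ ^ 2) β ∧
      twist (τ ^ 0) β ≠ twist (τ ^ 2) β := by
  refine ⟨(twist_ne hc τ hfix hβ 0).symm, (twist_ne hc τ hfix hβ 1).symm, ?_⟩
  have h1 := twist_ne hc τ hfix hβ 2
  rw [show 2 + 1 = 3 from rfl, h3, ← pow_zero τ] at h1
  exact h1

end Twist

section Abstract

variable {G : Type*} [Group G] [Fintype G] [Fintype (IrrCharacter G)] {P : Subgroup G} [Fintype P]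
  [Fintype (IrrCharacter P)] {T : Finset (IrrCharacter G)} {τ : MulAut P}

/-- Constant columns give constant values on `P`. -/
theorem val_of_const (hc : ∀ a b : P, a * b = b * a) (ψ : IrrCharacter G) (δ : ℤ)
    (h : ∀ β : IrrCharacter P, β ≠ oneI P → wInt P β ψ = δ) {x : P}
    (hx : x ≠ 1) : (ψ : G → ℂ) x = -(δ : ℂ) := by
  classical
  have h1 := inversion hc (fun t : P => (ψ : G → ℂ) t) hx
  rw [← h1]
  have h2 : ∀ β ∈ (Finset.univ.erase (oneI P) : Finset (IrrCharacter P)),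
      ((Nat.card P : ℂ)⁻¹ * ∑ t : P, (ψ : G → ℂ) t * (conj ((β : P → ℂ) t) - 1)) * (β : P → ℂ) x =
        (δ : ℂ) * (β : P → ℂ) x := by
    intro β hβ
    rw [← wInt_spec, h β (Finset.ne_of_mem_erase hβ)]
  rw [Finset.sum_congr rfl h2, ← Finset.mul_sum, sum_erase_val hc hx]
  ring

/-- The degree congruence. -/
theorem deg_congr (hc : ∀ a b : P, a * b = b * a) (ψ : IrrCharacter G) (δ : ℤ)
    (h : ∀ β : IrrCharacter P, β ≠ oneI P → wInt P β ψ = δ) :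
    ((Nat.card P : ℕ) : ℤ) ∣ (charDegree (ψ : G → ℂ) : ℤ) + δ := by
  classical
  obtain ⟨n, hn⟩ := exists_nat_classInner (isCharacter_restrict P (isCharacter_of_isIrrCharacter ψ.2))
    (isCharacter_one (G := P))
  rw [classInner_def] at hn
  have h0 := card_ne_zero' (A := P)
  have h1 : ∑ x : P, (ψ : G → ℂ) x = (Nat.card P : ℂ) * n := by
    rw [← hn, mul_inv_cancel_left₀ h0]
    simp
  rw [← Finset.add_sum_erase _ _ (Finset.mem_univ (1 : P))] at h1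
  have h2 : ∀ x ∈ (Finset.univ.erase (1 : P) : Finset P), (ψ : G → ℂ) x = -(δ : ℂ) := by
    intro x hx
    exact val_of_const hc ψ δ h (Finset.ne_of_mem_erase hx)
  rw [Finset.sum_congr rfl h2, Finset.sum_const, Finset.card_erase_of_mem (Finset.mem_univ _),
    Finset.card_univ, ← Nat.card_eq_fintype_card, nsmul_eq_mul,
    Nat.cast_sub Nat.card_pos] at h1
  simp only [Subgroup.coe_one, Nat.cast_one] at h1
  rw [← charDegree_natCast (isCharacter_of_isIrrCharacter ψ.2)] at h1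
  refine ⟨(n : ℤ) + δ, ?_⟩
  have h3 : (((charDegree (ψ : G → ℂ) : ℤ) + δ : ℤ) : ℂ) =
      (((Nat.card P : ℕ) : ℤ) * ((n : ℤ) + δ) : ℤ) := by
    push_cast
    linear_combination h1
  exact_mod_cast h3

/-- The final numeric step. -/
theorem numeric_final (d₂ d₃ d₄ : ℕ) (δ₂ δ₃ ε : ℤ) (h2 : δ₂ = 1 ∨ δ₂ = -1) (h3 : δ₃ = 1 ∨ δ₃ = -1)
    (hε : ε = 1 ∨ ε = -1) (hd₂ : 0 < d₂) (hd₃ : 0 < d₃) (hd₄ : 0 < d₄)
    (c2 : (16 : ℤ) ∣ (d₂ : ℤ) + δ₂) (c3 : (16 : ℤ) ∣ (d₃ : ℤ) + δ₃)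
    (E1 : -1 + δ₂ * (d₂ : ℤ) + δ₃ * (d₃ : ℤ) + ε * (d₄ : ℤ) = 0)
    (E3 : -1 + (δ₂ : ℂ) / (d₂ : ℂ) + (δ₃ : ℂ) / (d₃ : ℂ) + 9 * (ε : ℂ) / (d₄ : ℂ) = 0) :
    d₂ = 1 ∧ δ₂ = -1 := by
  have hd2 : (d₂ : ℂ) ≠ 0 := Nat.cast_ne_zero.mpr hd₂.ne'
  have hd3 : (d₃ : ℂ) ≠ 0 := Nat.cast_ne_zero.mpr hd₃.ne'
  have hd4 : (d₄ : ℂ) ≠ 0 := Nat.cast_ne_zero.mpr hd₄.ne'
  have E3' : -((d₂ : ℤ) * (d₃ : ℤ) * (d₄ : ℤ)) + δ₂ * (d₃ : ℤ) * (d₄ : ℤ) + δ₃ * (d₂ : ℤ) * (d₄ : ℤ) +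
      9 * ε * (d₂ : ℤ) * (d₃ : ℤ) = 0 := by
    have h1 : -((d₂ : ℂ) * (d₃ : ℂ) * (d₄ : ℂ)) + (δ₂ : ℂ) * (d₃ : ℂ) * (d₄ : ℂ) +
        (δ₃ : ℂ) * (d₂ : ℂ) * (d₄ : ℂ) + 9 * (ε : ℂ) * (d₂ : ℂ) * (d₃ : ℂ) = 0 := by
      have h5 := congrArg (fun t => t * ((d₂ : ℂ) * (d₃ : ℂ) * (d₄ : ℂ))) E3
      simp only [zero_mul] at h5
      rw [← h5]
      field_simp
    exact_mod_cast h1
  set A : ℤ := -(δ₂ * (d₂ : ℤ)) with hA
  set B : ℤ := -(δ₃ * (d₃ : ℤ)) with hB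
  have key := numeric A B ?_ ?_ ?_
  · obtain ⟨hA1, hB1⟩ := key
    rcases h2 with rfl | rfl
    · exfalso
      rw [hA] at hA1
      omega
    · rw [hA] at hA1
      refine ⟨?_, rfl⟩
      omega
  · rw [hA]
    rcases h2 with rfl | rfl <;> omega
  · rw [hB]
    rcases h3 with rfl | rfl <;> omega
  · rw [hA, hB]
    rcases h2 with rfl | rfl <;> rcases h3 with rfl | rfl <;> rcases hε with rfl | rfl <;>
    · first
      | (have h6 : (d₄ : ℤ) = 1 - (d₂ : ℤ) - (d₃ : ℤ) := by linarith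
         rw [h6] at E3'
         first | linear_combination E3' | linear_combination -E3')
      | (have h6 : (d₄ : ℤ) = 1 + (d₂ : ℤ) + (d₃ : ℤ) := by linarith
         rw [h6] at E3'
         first | linear_combination E3' | linear_combination -E3')
      | (have h6 : (d₄ : ℤ) = 1 - (d₂ : ℤ) + (d₃ : ℤ) := by linarith
         rw [h6] at E3'
         first | linear_combination E3' | linear_combination -E3')
      | (have h6 : (d₄ : ℤ) = 1 + (d₂ : ℤ) - (d₃ : ℤ) := by linarith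
         rw [h6] at E3'
         first | linear_combination E3' | linear_combination -E3')
      | (have h6 : (d₄ : ℤ) = -1 - (d₂ : ℤ) - (d₃ : ℤ) := by linarith
         rw [h6] at E3'
         first | linear_combination E3' | linear_combination -E3')
      | (have h6 : (d₄ : ℤ) = -1 + (d₂ : ℤ) + (d₃ : ℤ) := by linarith
         rw [h6] at E3'
         first | linear_combination E3' | linear_combination -E3')
      | (have h6 : (d₄ : ℤ) = -1 - (d₂ : ℤ) + (d₃ : ℤ) := by linarith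
         rw [h6] at E3'
         first | linear_combination E3' | linear_combination -E3')
      | (have h6 : (d₄ : ℤ) = -1 + (d₂ : ℤ) - (d₃ : ℤ) := by linarith
         rw [h6] at E3'
         first | linear_combination E3' | linear_combination -E3')

/-- **The main computation.** -/
theorem abstract_main (hc : ∀ a b : P, a * b = b * a) (hone : oneI G ∈ T) (h3 : τ ^ 3 = 1)
    (hfix : ∀ x : P, τ x = x → x = 1)
    (hK : ∀ (_ : DecidableEq P) (x x' : P), x ≠ 1 → x' ≠ 1 → ∑ ζ ∈ T, (ζ : G → ℂ) x * conj ((ζ : G → ℂ) x') =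
      (Nat.card P : ℂ) * ∑ a : Fin 3, if x' = (τ ^ (a : ℕ)) x then 1 else 0)
    (hR : ∀ y : G, ¬ 2 ∣ orderOf y → ∀ x' : P, x' ≠ 1 →
      ∑ ζ ∈ T, (ζ : G → ℂ) y * conj ((ζ : G → ℂ) x') = 0)
    (h16 : 16 ∣ Nat.card P) (β₀ : IrrCharacter P) (hβ₀ : β₀ ≠ oneI P) (z : P) (hz1 : z ≠ 1)
    (hβ₀z : ∀ a : Fin 3, (β₀ : P → ℂ) ((τ ^ (a : ℕ)) z) = 1)
    (hU : ∀ g : G, ¬ 2 ∣ orderOf ((z : G) * (g * z * g⁻¹)) ∨
      ∀ ζ ∈ T, (ζ : G → ℂ) ((z : G) * (g * z * g⁻¹)) = (ζ : G → ℂ) z) :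
    ∃ ψ : IrrCharacter G, ψ ≠ oneI G ∧ (ψ : G → ℂ) 1 = 1 ∧ ∀ x : P, (ψ : G → ℂ) x = 1 := by
  classical
  have hK' := hK inferInstance
  have hgram := fun β γ hβ hγ => gram (T := T) (τ := τ) hc hK' hR β γ hβ hγ
  set Is : Finset (IrrCharacter P) := Finset.univ.erase (oneI P) with hIs
  have hIsm : ∀ β, β ∈ Is ↔ β ≠ oneI P := fun β => by simp [hIs]
  set c : IrrCharacter P → IrrCharacter G → ℤ := fun β ζ => wInt P β ζ with hc'
  have hPc : 16 ≤ Nat.card P := Nat.le_of_dvd Nat.card_pos h16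
  -- the Gram matrix in integers
  have hdotform : ∀ β ∈ Is, ∀ γ ∈ Is, ∑ t ∈ T, c β t * c γ t =
      ∑ a : Fin 3, ((if twist (τ ^ (a : ℕ)) β = γ then 1 else 0) + 1 : ℤ) := by
    intro β hβ γ hγ
    have h1 := hgram β γ ((hIsm _).mp hβ) ((hIsm _).mp hγ)
    have h2 : ∑ t ∈ T, c β t * c γ t = ∑ ζ ∈ T, wInt P γ ζ * wInt P β ζ :=
      Finset.sum_congr rfl fun t _ => mul_comm _ _
    rw [h2]
    have h4 : ((∑ ζ ∈ T, wInt P γ ζ * wInt P β ζ : ℤ) : ℂ) =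
        ((∑ a : Fin 3, ((if twist (τ ^ (a : ℕ)) β = γ then 1 else 0) + 1 : ℤ) : ℤ) : ℂ) := by
      rw [h1]
      push_cast
      rfl
    exact_mod_cast h4
  have hvals : ∀ β ∈ Is, ∀ γ ∈ Is, (∑ t ∈ T, c β t * c γ t = 3 ∨ ∑ t ∈ T, c β t * c γ t = 4) ∧
      (∑ t ∈ T, c β t * c γ t = 4 → ∃ a : Fin 3, γ = twist (τ ^ (a : ℕ)) β) := by
    intro β hβ γ hγ
    rw [hdotform β hβ γ hγ, Fin.sum_univ_three]
    obtain ⟨h01, h12, h02⟩ := twists_ne hc τ h3 hfix ((hIsm _).mp hβ)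
    simp only [Fin.val_zero, Fin.val_one, Fin.val_two]
    by_cases e0 : twist (τ ^ 0) β = γ
    · have e1 : twist (τ ^ 1) β ≠ γ := fun h => h01 (e0.trans h.symm)
      have e2 : twist (τ ^ 2) β ≠ γ := fun h => h02 (e0.trans h.symm)
      rw [if_pos e0, if_neg e1, if_neg e2]
      exact ⟨Or.inr (by norm_num), fun _ => ⟨0, e0.symm⟩⟩
    · by_cases e1 : twist (τ ^ 1) β = γ
      · have e2 : twist (τ ^ 2) β ≠ γ := fun h => h12 (e1.trans h.symm)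
        rw [if_neg e0, if_pos e1, if_neg e2]
        exact ⟨Or.inr (by norm_num), fun _ => ⟨1, e1.symm⟩⟩
      · by_cases e2 : twist (τ ^ 2) β = γ
        · rw [if_neg e0, if_neg e1, if_pos e2]
          exact ⟨Or.inr (by norm_num), fun _ => ⟨2, e2.symm⟩⟩
        · rw [if_neg e0, if_neg e1, if_neg e2]
          exact ⟨Or.inl (by norm_num), fun h => by norm_num at h⟩
  have hnorm : ∀ β ∈ Is, ∑ t ∈ T, c β t ^ 2 = 4 := by
    intro β hβ
    have h1 := hdotform β hβ β hβ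
    have h2 : ∑ t ∈ T, c β t ^ 2 = ∑ t ∈ T, c β t * c β t :=
      Finset.sum_congr rfl fun t _ => sq _
    rw [h2, h1, Fin.sum_univ_three]
    obtain ⟨h01, h12, h02⟩ := twists_ne hc τ h3 hfix ((hIsm _).mp hβ)
    have e0 : twist (τ ^ 0) β = β := by
      rw [pow_zero]
      rfl
    simp only [Fin.val_zero, Fin.val_one, Fin.val_two]
    rw [if_pos e0, if_neg (fun h => h01 (e0.trans h.symm)), if_neg (fun h => h02 (e0.trans h.symm))]
    norm_num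
  have hcardIs : 13 ≤ Is.card := by
    rw [hIs, Finset.card_erase_of_mem (Finset.mem_univ _), Finset.card_univ, card_irr hc]
    omega
  obtain ⟨ψ₂, hψ₂, ψ₃, hψ₃, δ₂, δ₃, h2ι, h3ι, h23, hδ₂, hδ₃, hcon, hcol⟩ :=
    columns T Is c (oneI G) hone (fun β hβ => wInt_oneI P β ((hIsm _).mp hβ)) hnorm
      (fun β hβ γ hγ => (hvals β hβ γ hγ).1) (fun β a => twist (τ ^ (a : ℕ)) β)
      (fun β hβ γ hγ h => (hvals β hβ γ hγ).2 h) hcardIs
  have hβ₀m : β₀ ∈ Is := (hIsm _).mpr hβ₀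
  obtain ⟨χ, hχ, ε, hχι, hχ2, hχ3, hε, hform⟩ := hcol β₀ hβ₀m
  have hsum := fun F : IrrCharacter G → ℂ => sum_column T (c β₀) (oneI G) ψ₂ ψ₃ χ hone hψ₂ hψ₃ hχ δ₂ δ₃ ε
    h2ι h3ι h23 hχι hχ2 hχ3 hform F
  -- the values of `ψ₂`, `ψ₃`
  have hv2 : ∀ x : P, x ≠ 1 → (ψ₂ : G → ℂ) x = -(δ₂ : ℂ) :=
    fun x hx => val_of_const hc ψ₂ δ₂ (fun β hβ => (hcon β ((hIsm _).mpr hβ)).1) hx
  have hv3 : ∀ x : P, x ≠ 1 → (ψ₃ : G → ℂ) x = -(δ₃ : ℂ) :=
    fun x hx => val_of_const hc ψ₃ δ₃ (fun β hβ => (hcon β ((hIsm _).mpr hβ)).2) hx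
  have hd2 := deg_congr hc ψ₂ δ₂ (fun β hβ => (hcon β ((hIsm _).mpr hβ)).1)
  have hd3 := deg_congr hc ψ₃ δ₃ (fun β hβ => (hcon β ((hIsm _).mpr hβ)).2)
  have h16' : (16 : ℤ) ∣ ((Nat.card P : ℕ) : ℤ) := by exact_mod_cast h16
  -- the three equations
  have hsq2 : ((δ₂ : ℂ)) * (δ₂ : ℂ) = 1 := by
    rcases hδ₂ with rfl | rfl <;> simp
  have hsq3 : ((δ₃ : ℂ)) * (δ₃ : ℂ) = 1 := by
    rcases hδ₃ with rfl | rfl <;> simp
  have hsqε : ((ε : ℂ)) * (ε : ℂ) = 1 := by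
    rcases hε with rfl | rfl <;> simp
  have deg2 := charDegree_natCast (isCharacter_of_isIrrCharacter ψ₂.2)
  have deg3 := charDegree_natCast (isCharacter_of_isIrrCharacter ψ₃.2)
  have deg4 := charDegree_natCast (isCharacter_of_isIrrCharacter χ.2)
  have E1 : -1 + δ₂ * (charDegree (ψ₂ : G → ℂ) : ℤ) + δ₃ * (charDegree (ψ₃ : G → ℂ) : ℤ) +
      ε * (charDegree (χ : G → ℂ) : ℤ) = 0 := by
    have h1 := Xi_regular (T := T) hc hR β₀ (y := (1 : G)) (by simp)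
    rw [Xi] at h1
    have h2 := hsum (fun t => (t : G → ℂ) 1)
    rw [h1] at h2
    simp only [oneI_apply, ← deg2, ← deg3, ← deg4] at h2
    have h4 : ((-1 + δ₂ * (charDegree (ψ₂ : G → ℂ) : ℤ) + δ₃ * (charDegree (ψ₃ : G → ℂ) : ℤ) +
      ε * (charDegree (χ : G → ℂ) : ℤ) : ℤ) : ℂ) = ((0 : ℤ) : ℂ) := by
      push_cast
      exact h2.symm
    exact_mod_cast h4
  have hXiz : Xi (P := P) T β₀ z = 0 := by
    rw [Xi_coe hc hK' hR]
    exact Finset.sum_eq_zero fun a _ => by rw [hβ₀z a, sub_self]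
  have hχz : (χ : G → ℂ) z = 3 * (ε : ℂ) := by
    rw [Xi] at hXiz
    have h2 := hsum (fun t => (t : G → ℂ) z)
    rw [hXiz] at h2
    simp only [oneI_apply, hv2 z hz1, hv3 z hz1] at h2
    linear_combination (-(ε : ℂ)) * h2 + (ε : ℂ) * hsq2 + (ε : ℂ) * hsq3 - ((χ : G → ℂ) z) * hsqε
  have hXig : ∀ g : G, Xi (P := P) T β₀ ((z : G) * (g * z * g⁻¹)) = 0 := by
    intro g
    rcases hU g with h | h
    · exact Xi_regular hc hR β₀ h
    · rw [← hXiz, Xi, Xi]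
      exact Finset.sum_congr rfl fun ζ hζ => by rw [h ζ hζ]
  have hcardG : (Nat.card G : ℂ) ≠ 0 := Nat.cast_ne_zero.mpr Nat.card_pos.ne'
  have E3 : -1 + (δ₂ : ℂ) / (charDegree (ψ₂ : G → ℂ) : ℂ) + (δ₃ : ℂ) / (charDegree (ψ₃ : G → ℂ) : ℂ) +
      9 * (ε : ℂ) / (charDegree (χ : G → ℂ) : ℂ) = 0 := by
    have h1 : ∑ g : G, Xi (P := P) T β₀ ((z : G) * (g * z * g⁻¹)) = 0 :=
      Finset.sum_eq_zero fun g _ => hXig g
    have h2 : ∑ g : G, Xi (P := P) T β₀ ((z : G) * (g * z * g⁻¹)) =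
        (Nat.card G : ℂ) * ∑ t ∈ T, (c β₀ t : ℂ) * ((t : G → ℂ) z * (t : G → ℂ) z / (t : G → ℂ) 1) := by
      simp only [Xi]
      rw [Finset.sum_comm, Finset.mul_sum]
      refine Finset.sum_congr rfl fun t _ => ?_
      rw [← Finset.mul_sum, Cfsg.Agent.Lib.Blocks.Weak.sum_conj_mul]
      ring
    rw [h1] at h2
    have h3 := (mul_eq_zero.mp h2.symm).resolve_left hcardG
    rw [hsum (fun t => (t : G → ℂ) z * (t : G → ℂ) z / (t : G → ℂ) 1)] at h3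
    simp only [oneI_apply, hv2 z hz1, hv3 z hz1, hχz, ← deg2, ← deg3, ← deg4] at h3
    have e2 : -(δ₂ : ℂ) * -(δ₂ : ℂ) = 1 := by linear_combination hsq2
    have e3 : -(δ₃ : ℂ) * -(δ₃ : ℂ) = 1 := by linear_combination hsq3
    have e4 : 3 * (ε : ℂ) * (3 * (ε : ℂ)) = 9 := by linear_combination 9 * hsqε
    rw [e2, e3, e4] at h3
    rw [← h3]
    ring
  obtain ⟨hd1, hδ⟩ := numeric_final _ _ _ δ₂ δ₃ ε hδ₂ hδ₃ hε (charDegree_pos ψ₂.2) (charDegree_pos ψ₃.2)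
    (charDegree_pos χ.2) (h16'.trans hd2) (h16'.trans hd3) E1 E3
  refine ⟨ψ₂, h2ι, ?_, ?_⟩
  · rw [← deg2, hd1]
    simp
  · intro x
    by_cases hx : x = 1
    · rw [hx, Subgroup.coe_one, ← deg2, hd1]
      simp
    · rw [hv2 x hx, hδ]
      simp

end Abstract

end Cfsg.Agent.Lib.BlockT.HomoAbs
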