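import Mathlib
import Cfsg.Agent.Lib.BlockT.Homocyclic
import Cfsg.Agent.Lib.BlockT.HomoAbs
import Cfsg.Agent.Lib.Blocks.NormSum
import Cfsg.Agent.Lib.Blocks.Heights
import Cfsg.Agent.Lib.Blocks.General
import Cfsg.Agent.Lib.Core.Basic
import Cfsg.Agent.Lib.BlockH.Basic

/-!
# Local analysis for homocyclic Sylow `2`-subgroups

If `G` has a Sylow `2`-subgroup of type `(2^m, 2^m)`, `m ≥ 2`, and no normal `2`-complement, then `G`
has a nontrivial linear character trivial on `P`.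
-/

set_option autoImplicit false
set_option linter.style.haveILetI false
set_option linter.unusedSectionVars false
set_option linter.unusedVariables false

namespace Cfsg.Agent.Lib.BlockT.HomoLocal

open Cfsg
open Cfsg.Agent.Lib.BlockT.Homocyclic Cfsg.Agent.Lib.BlockT.HomoDual Cfsg.Agent.Lib.BlockT.HomoAbs
open Cfsg.Agent.Lib.Blocks.Third (oneI oneI_apply isPBlock_principal)
open Cfsg.Agent.Lib.Blocks.Local Cfsg.Agent.Lib.Blocks.Central
open Cfsg.Agent.Lib.Char.Basic Cfsg.Agent.Lib.Char.Ortho Cfsg.Agent.Lib.Char.Complete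
open Cfsg.Agent.Lib.Char.Linear
open scoped ComplexConjugate

variable {G : Type*} [Group G] [Finite G] {P : Sylow 2 G} {m : ℕ}

section Transfer

theorem card_subgroupOf_of_le' {H K : Subgroup G} (h : H ≤ K) : Nat.card (H.subgroupOf K) = Nat.card H :=
  Nat.card_congr (Subgroup.subgroupOfEquivOfLe h).toEquiv

/-- The transfer kernel of the centralizer of a nonidentity element of `P`. -/
theorem exists_ker (hm : 1 ≤ m) (e : (P : Subgroup G) ≃* Multiplicative (ZMod (2 ^ m) × ZMod (2 ^ m)))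
    {z : G} (hzP : z ∈ (P : Subgroup G)) (hz1 : z ≠ 1) :
    ∃ K : Subgroup (Subgroup.centralizer ({z} : Set G)), K.Normal ∧ (∀ u ∈ K, Odd (orderOf u)) ∧
      (∃ k : ℕ, K.index = 2 ^ k) ∧ (Nat.card K).Coprime 2 ∧
      (∀ s s' : Subgroup.centralizer ({z} : Set G), s ^ 2 = 1 → s' ^ 2 = 1 → (s * s') ^ 2 ∈ K) ∧
      2 ^ (Nat.card (Subgroup.centralizer ({z} : Set G))).factorization 2 = Nat.card (P : Subgroup G) := by
  classical
  set H := Subgroup.centralizer ({z} : Set G) with hH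
  have hab := abelian_of_equiv e
  have hle : (P : Subgroup G) ≤ H := by
    intro x hx
    rw [hH, Subgroup.mem_centralizer_singleton_iff]
    exact hab x hx z hzP
  let S : Sylow 2 H := P.subtype hle
  have hScoe : (S : Subgroup H) = (P : Subgroup G).subgroupOf H := Sylow.coe_subtype P hle
  have hScard : Nat.card S = Nat.card (P : Subgroup G) := by
    change Nat.card (S : Subgroup H) = _
    rw [hScoe, card_subgroupOf_of_le' hle]
  have hmemS : ∀ x : H, x ∈ (S : Subgroup H) ↔ (x : G) ∈ (P : Subgroup G) := by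
    intro x
    rw [hScoe, Subgroup.mem_subgroupOf]
  have hnorm : Subgroup.normalizer ((S : Subgroup H) : Set H) ≤ Subgroup.centralizer ((S : Subgroup H) : Set H) := by
    intro t ht
    have h1 : (t : G) ∈ Subgroup.normalizer ((P : Subgroup G) : Set G) := by
      rw [Subgroup.mem_normalizer_iff]
      intro x
      have htH : (t : G) ∈ H := t.2
      constructor
      · intro hx
        have h2 := (Subgroup.mem_normalizer_iff.mp ht (⟨x, hle hx⟩ : H)).mp ((hmemS _).mpr hx)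
        have h3 := (hmemS _).mp h2
        simpa using h3
      · intro hx
        have hxH : x ∈ H := by
          have h2 := H.mul_mem (H.mul_mem (H.inv_mem htH) (hle hx)) htH
          simpa [mul_assoc] using h2
        have h2 : (t * (⟨x, hxH⟩ : H) * t⁻¹) ∈ (S : Subgroup H) := by
          rw [hmemS]
          simpa using hx
        exact (hmemS _).mp ((Subgroup.mem_normalizer_iff.mp ht (⟨x, hxH⟩ : H)).mpr h2)
    have hcomm : (t : G) * z = z * (t : G) := (Subgroup.mem_centralizer_singleton_iff.mp t.2)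
    have h2 := mem_centralizer_of_commute hm e hzP hz1 h1 hcomm
    rw [Subgroup.mem_centralizer_iff]
    intro s hs
    apply Subtype.ext
    exact Subgroup.mem_centralizer_iff.mp h2 _ ((hmemS s).mp hs)
  have hcomp := MonoidHom.ker_transferSylow_isComplement' S hnorm
  have hS : Nat.card S = 2 ^ (Nat.card H).factorization 2 := S.card_eq_multiplicity
  have hnd := MonoidHom.not_dvd_card_ker_transferSylow S hnorm
  refine ⟨(MonoidHom.transferSylow S hnorm).ker, inferInstance, ?_, ?_, ?_, ?_, ?_⟩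
  · intro u hu
    have h1 : orderOf (⟨u, hu⟩ : (MonoidHom.transferSylow S hnorm).ker) ∣
        Nat.card (MonoidHom.transferSylow S hnorm).ker := orderOf_dvd_natCard _
    rw [Subgroup.orderOf_mk] at h1
    rw [← Nat.not_even_iff_odd]
    intro h2
    exact hnd (h2.two_dvd.trans h1)
  · have h2 : (MonoidHom.transferSylow S hnorm).ker.index = Nat.card S := hcomp.symm.index_eq_card
    rw [h2, hS]
    exact ⟨_, rfl⟩
  · exact ((Nat.Prime.coprime_iff_not_dvd Nat.prime_two).mpr hnd).symm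
  · intro s s' hs hs'
    rw [MonoidHom.mem_ker, map_pow, map_mul]
    have hcS : ∀ a b : (S : Subgroup H), a * b = b * a := by
      intro a b
      apply Subtype.ext
      apply Subtype.ext
      exact hab _ ((hmemS _).mp a.2) _ ((hmemS _).mp b.2)
    have h1 : (MonoidHom.transferSylow S hnorm s) ^ 2 = 1 := by rw [← map_pow, hs, map_one]
    have h2 : (MonoidHom.transferSylow S hnorm s') ^ 2 = 1 := by rw [← map_pow, hs', map_one]
    have h3 := (show Commute (MonoidHom.transferSylow S hnorm s) (MonoidHom.transferSylow S hnorm s')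
      from hcS _ _).mul_pow 2
    rw [h3, h1, h2, one_mul]
  · rw [← hS, hScard]

/-- The centralizer of a nonidentity element of `P` is `2`-nilpotent. -/
theorem index_core (hm : 1 ≤ m) (e : (P : Subgroup G) ≃* Multiplicative (ZMod (2 ^ m) × ZMod (2 ^ m)))
    {z : G} (hzP : z ∈ (P : Subgroup G)) (hz1 : z ≠ 1) :
    ∃ k : ℕ, (Cfsg.pPrimeCore 2 (Subgroup.centralizer ({z} : Set G))).index = 2 ^ k := by
  obtain ⟨K, hK, -, ⟨j, hj⟩, hcop, -, -⟩ := exists_ker hm e hzP hz1
  have hK2 : K ≤ Cfsg.pPrimeCore 2 (Subgroup.centralizer ({z} : Set G)) :=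
    Cfsg.Agent.Lib.Core.Basic.le_pPrimeCore hK hcop
  have h1 := Subgroup.index_dvd_of_le hK2
  rw [hj] at h1
  obtain ⟨k, -, hk⟩ := (Nat.dvd_prime_pow Nat.prime_two).mp h1
  exact ⟨k, hk⟩

/-- Elements of odd order lie in a normal subgroup of `2`-power index. -/
theorem mem_of_odd {H : Type*} [Group H] [Finite H] {N : Subgroup H} [N.Normal] {k : ℕ} (hk : N.index = 2 ^ k)
    {y : H} (hy : ¬ 2 ∣ orderOf y) : y ∈ N := by
  have h1 : y ^ N.index ∈ N := Subgroup.pow_index_mem N y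
  rw [hk] at h1
  have hcop : (2 ^ k).Coprime (orderOf y) :=
    Nat.Coprime.pow_left _ ((Nat.Prime.coprime_iff_not_dvd Nat.prime_two).mpr hy)
  obtain ⟨t, ht⟩ := exists_pow_eq_self_of_coprime hcop
  rw [← ht]
  exact N.pow_mem h1 t

end Transfer

section Action

variable (n : Subgroup.normalizer ((P : Subgroup G) : Set G))

/-- The automorphism of `P` induced by `n`. -/
noncomputable abbrev tauOf : MulAut (P : Subgroup G) := (P : Subgroup G).normalizerMonoidHom n

theorem tau_coe (x : (P : Subgroup G)) : ((tauOf n x : (P : Subgroup G)) : G) = (n : G) * x * (n : G)⁻¹ := rfl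

theorem tau_pow_coe (k : ℕ) (x : (P : Subgroup G)) :
    (((tauOf n ^ k) x : (P : Subgroup G)) : G) = (n : G) ^ k * x * ((n : G) ^ k)⁻¹ := by
  have h1 : tauOf n ^ k = tauOf (n ^ k) := (map_pow _ _ _).symm
  rw [h1, tau_coe]
  simp

variable {n}

theorem card_range (hm : 1 ≤ m) (e : (P : Subgroup G) ≃* Multiplicative (ZMod (2 ^ m) × ZMod (2 ^ m)))
    (hn : (n : G) ∉ Subgroup.centralizer ((P : Subgroup G) : Set G)) :
    Nat.card ((P : Subgroup G).normalizerMonoidHom).range = 3 := by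
  rw [← Subgroup.index_ker, Subgroup.normalizerMonoidHom_ker]
  rcases relIndex_eq hm e with h | h
  · exfalso
    exact hn (Subgroup.relIndex_eq_one.mp h n.2)
  · exact h

theorem tau_ne_one (hn : (n : G) ∉ Subgroup.centralizer ((P : Subgroup G) : Set G)) : tauOf n ≠ 1 := by
  intro h
  apply hn
  have h1 : n ∈ ((P : Subgroup G).normalizerMonoidHom).ker := h
  rw [Subgroup.normalizerMonoidHom_ker, Subgroup.mem_subgroupOf] at h1
  exact h1

theorem tau_cube (hm : 1 ≤ m) (e : (P : Subgroup G) ≃* Multiplicative (ZMod (2 ^ m) × ZMod (2 ^ m)))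
    (hn : (n : G) ∉ Subgroup.centralizer ((P : Subgroup G) : Set G)) : tauOf n ^ 3 = 1 := by
  have hc := card_range hm e hn
  have h1 := pow_card_eq_one' (x := (⟨tauOf n, ⟨n, rfl⟩⟩ : ((P : Subgroup G).normalizerMonoidHom).range))
  rw [hc] at h1
  exact congrArg Subtype.val h1

theorem tau_fix (hm : 1 ≤ m) (e : (P : Subgroup G) ≃* Multiplicative (ZMod (2 ^ m) × ZMod (2 ^ m)))
    (hn : (n : G) ∉ Subgroup.centralizer ((P : Subgroup G) : Set G)) (x : (P : Subgroup G))
    (hx : tauOf n x = x) : x = 1 := by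
  by_contra hx1
  have hx1' : (x : G) ≠ 1 := fun h => hx1 (Subtype.ext h)
  apply hn
  refine mem_centralizer_of_commute hm e x.2 hx1' n.2 ?_
  have h1 := congrArg Subtype.val hx
  rw [tau_coe] at h1
  rw [mul_inv_eq_iff_eq_mul] at h1
  exact h1

/-- Every automorphism from the normalizer is a power of `τ`. -/
theorem exists_pow_eq (hm : 1 ≤ m) (e : (P : Subgroup G) ≃* Multiplicative (ZMod (2 ^ m) × ZMod (2 ^ m)))
    (hn : (n : G) ∉ Subgroup.centralizer ((P : Subgroup G) : Set G))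
    (n' : Subgroup.normalizer ((P : Subgroup G) : Set G)) : ∃ a : Fin 3, tauOf n' = tauOf n ^ (a : ℕ) := by
  have hc := card_range hm e hn
  have hne : (⟨tauOf n, ⟨n, rfl⟩⟩ : ((P : Subgroup G).normalizerMonoidHom).range) ≠ 1 := by
    intro h
    exact tau_ne_one hn (congrArg Subtype.val h)
  haveI : Fact (Nat.Prime 3) := ⟨Nat.prime_three⟩
  have h1 := mem_zpowers_of_prime_card hc hne
    (g' := (⟨tauOf n', ⟨n', rfl⟩⟩ : ((P : Subgroup G).normalizerMonoidHom).range))
  obtain ⟨i, hi⟩ := Subgroup.mem_zpowers_iff.mp h1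
  have h2 : tauOf n ^ i = tauOf n' := congrArg Subtype.val hi
  have h3 := tau_cube hm e hn
  have hmod : (0 : ℤ) ≤ i % 3 := Int.emod_nonneg _ (by norm_num)
  have hlt : i % 3 < 3 := Int.emod_lt_of_pos _ (by norm_num)
  obtain ⟨r, hr⟩ := Int.eq_ofNat_of_zero_le hmod
  have hi2 : i = 3 * (i / 3) + (r : ℤ) := by
    rw [← hr]
    exact (Int.mul_ediv_add_emod i 3).symm
  have h4 : tauOf n ^ (3 : ℤ) = 1 := by
    rw [show (3 : ℤ) = ((3 : ℕ) : ℤ) from rfl, zpow_natCast, h3]
  have h5 : tauOf n ^ i = tauOf n ^ r := by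
    conv_lhs => rw [hi2]
    rw [zpow_add, zpow_mul, h4, one_zpow, one_mul, zpow_natCast]
  refine ⟨⟨r, by omega⟩, ?_⟩
  rw [← h2, h5]

/-- Burnside fusion. -/
theorem isConj_iff_tau (hm : 1 ≤ m) (e : (P : Subgroup G) ≃* Multiplicative (ZMod (2 ^ m) × ZMod (2 ^ m)))
    (hn : (n : G) ∉ Subgroup.centralizer ((P : Subgroup G) : Set G)) (x x' : (P : Subgroup G)) :
    IsConj (x : G) (x' : G) ↔ ∃ a : Fin 3, x' = (tauOf n ^ (a : ℕ)) x := by
  have hab := abelian_of_equiv e
  constructor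
  · intro h
    obtain ⟨c, hc⟩ := isConj_iff.mp h
    have hx : (x : G) ∈ Subgroup.centralizer (P : Set G) := by
      rw [Subgroup.mem_centralizer_iff]
      intro y hy
      exact hab y hy x x.2
    have hy : c⁻¹⁻¹ * (x : G) * c⁻¹ ∈ Subgroup.centralizer (P : Set G) := by
      rw [inv_inv, hc, Subgroup.mem_centralizer_iff]
      intro y hy
      exact hab y hy x' x'.2
    obtain ⟨t, ht, hte⟩ := Sylow.conj_eq_normalizer_conj_of_mem_centralizer P (x : G) c⁻¹ hx hy
    rw [inv_inv, hc] at hte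
    have ht' : t⁻¹ ∈ Subgroup.normalizer ((P : Subgroup G) : Set G) :=
      Subgroup.inv_mem _ (by simpa using ht)
    obtain ⟨a, ha⟩ := exists_pow_eq hm e hn ⟨t⁻¹, ht'⟩
    refine ⟨a, ?_⟩
    rw [← ha]
    apply Subtype.ext
    rw [tau_coe, hte]
    simp
  · rintro ⟨a, rfl⟩
    refine isConj_iff.mpr ⟨(n : G) ^ (a : ℕ), ?_⟩
    rw [tau_pow_coe]

open scoped Classical in
/-- The Kronecker delta in terms of `τ`. -/
theorem sum_ite_tau (hm : 1 ≤ m) (e : (P : Subgroup G) ≃* Multiplicative (ZMod (2 ^ m) × ZMod (2 ^ m)))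
    (hn : (n : G) ∉ Subgroup.centralizer ((P : Subgroup G) : Set G)) {x x' : (P : Subgroup G)} (hx : x ≠ 1) :
    (∑ a : Fin 3, if x' = (tauOf n ^ (a : ℕ)) x then (1 : ℂ) else 0) =
      if IsConj (x : G) (x' : G) then 1 else 0 := by
  classical
  have hfix := tau_fix hm e hn
  have hcube := tau_cube hm e hn
  have hne : ∀ y : (P : Subgroup G), y ≠ 1 → tauOf n y ≠ y := fun y hy h => hy (hfix y h)
  have hv : ∀ k : ℕ, (tauOf n ^ k) x ≠ 1 := by
    intro k h
    apply hx
    have := (MulEquiv.map_eq_one_iff (tauOf n ^ k)).mp h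
    exact this
  have hs : ∀ k : ℕ, tauOf n ((tauOf n ^ k) x) = (tauOf n ^ (k + 1)) x := by
    intro k
    rw [pow_succ']
    rfl
  have e01 : (tauOf n ^ 0) x ≠ (tauOf n ^ 1) x := by
    have := hne _ (hv 0)
    rw [hs] at this
    exact this.symm
  have e12 : (tauOf n ^ 1) x ≠ (tauOf n ^ 2) x := by
    have := hne _ (hv 1)
    rw [hs] at this
    exact this.symm
  have e20 : (tauOf n ^ 0) x ≠ (tauOf n ^ 2) x := by
    have := hne _ (hv 2)
    rw [hs, show 2 + 1 = 3 from rfl, hcube] at this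
    exact this
  rw [Fin.sum_univ_three]
  simp only [Fin.val_zero, Fin.val_one, Fin.val_two]
  by_cases hc : IsConj (x : G) (x' : G)
  · rw [if_pos hc]
    obtain ⟨a, ha⟩ := (isConj_iff_tau hm e hn x x').mp hc
    fin_cases a
    · have h0 : x' = (tauOf n ^ 0) x := ha
      rw [if_pos h0, if_neg (fun h => e01 (h0.symm.trans h)), if_neg (fun h => e20 (h0.symm.trans h))]
      norm_num
    · have h0 : x' = (tauOf n ^ 1) x := ha
      rw [if_neg (fun h => e01 (h.symm.trans h0)), if_pos h0, if_neg (fun h => e12 (h0.symm.trans h))]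
      norm_num
    · have h0 : x' = (tauOf n ^ 2) x := ha
      rw [if_neg (fun h => e20 (h.symm.trans h0)), if_neg (fun h => e12 (h.symm.trans h0)), if_pos h0]
      norm_num
  · rw [if_neg hc]
    have h1 : ∀ k : Fin 3, ¬ x' = (tauOf n ^ (k : ℕ)) x := fun k h =>
      hc ((isConj_iff_tau hm e hn x x').mpr ⟨k, h⟩)
    have h10 : ¬ x' = (tauOf n ^ 0) x := h1 0
    have h11 : ¬ x' = (tauOf n ^ 1) x := h1 1
    have h12 : ¬ x' = (tauOf n ^ 2) x := h1 2
    rw [if_neg h10, if_neg h11, if_neg h12]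
    norm_num

end Action

section Orders

/-- The square of a product of two involutions has odd order. -/
theorem odd_orderOf_sq (hm : 1 ≤ m) (e : (P : Subgroup G) ≃* Multiplicative (ZMod (2 ^ m) × ZMod (2 ^ m)))
    (hone : ∀ s t : G, orderOf s = 2 → orderOf t = 2 → IsConj s t) {z : G} (hzP : z ∈ (P : Subgroup G))
    (hz : orderOf z = 2) {s s' : G} (hs : orderOf s = 2) (hs' : orderOf s' = 2) :
    ¬ 2 ∣ orderOf ((s * s') ^ 2) := by
  intro hd
  have hs2 : s ^ 2 = 1 := by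
    rw [← hs]
    exact pow_orderOf_eq_one s
  have hs2' : s' ^ 2 = 1 := by
    rw [← hs']
    exact pow_orderOf_eq_one s'
  have hsi : s⁻¹ = s := by
    rw [inv_eq_iff_mul_eq_one, ← sq]
    exact hs2
  have hsi' : s'⁻¹ = s' := by
    rw [inv_eq_iff_mul_eq_one, ← sq]
    exact hs2'
  set g := s * s' with hg
  set o := orderOf (g ^ 2) with ho
  have ho0 : o ≠ 0 := (orderOf_pos (g ^ 2)).ne'
  set f := (g ^ 2) ^ (o / 2) with hf
  have hfo : orderOf f = 2 := orderOf_pow_orderOf_div ho0 hd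
  have hf2 : f ^ 2 = 1 := by
    rw [← hfo]
    exact pow_orderOf_eq_one f
  have hfi : f⁻¹ = f := by
    rw [inv_eq_iff_mul_eq_one, ← sq]
    exact hf2
  -- `s` inverts `g`
  have hinv : s * g * s⁻¹ = g⁻¹ := by
    rw [hg, mul_inv_rev, hsi, hsi']
    calc s * (s * s') * s = (s * s) * s' * s := by group
      _ = s' * s := by rw [← sq, hs2, one_mul]
  have hpow : ∀ k : ℕ, s * g ^ k * s⁻¹ = (g⁻¹) ^ k := by
    intro k
    rw [← hinv]
    simp [conj_pow]
  have hsf : s * f = f * s := by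
    have h1 : s * f * s⁻¹ = f⁻¹ := by
      rw [hf, ← pow_mul, hpow, inv_pow]
    rw [hfi] at h1
    rw [mul_inv_eq_iff_eq_mul] at h1
    exact h1
  have hgf : g * f = f * g := by
    have : Commute g f := by
      rw [hf]
      exact ((Commute.refl g).pow_right 2).pow_right _
    exact this
  have hs'f : s' * f = f * s' := by
    have e1 : s' = s * g := by
      rw [hg, ← mul_assoc, ← sq, hs2, one_mul]
    rw [e1, mul_assoc, hgf, ← mul_assoc, hsf, mul_assoc]
  obtain ⟨c, hc⟩ := isConj_iff.mp (hone _ _ hfo hz)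
  -- conjugate into `C(z)`
  have hz1 : z ≠ 1 := by
    rintro rfl
    rw [orderOf_one] at hz
    norm_num at hz
  obtain ⟨K, hK, hodd, -, -, hsq, -⟩ := exists_ker hm e hzP hz1
  have hcomm : ∀ t : G, t * f = f * t → c * t * c⁻¹ ∈ Subgroup.centralizer ({z} : Set G) := by
    intro t ht
    rw [Subgroup.mem_centralizer_singleton_iff, ← hc]
    calc c * t * c⁻¹ * (c * f * c⁻¹) = c * (t * f) * c⁻¹ := by group
      _ = c * (f * t) * c⁻¹ := by rw [ht]
      _ = _ := by group
  have conj_sq : ∀ t : G, t ^ 2 = 1 → (c * t * c⁻¹) ^ 2 = 1 := by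
    intro t ht
    rw [conj_pow, ht]
    simp
  let t₁ : Subgroup.centralizer ({z} : Set G) := ⟨c * s * c⁻¹, hcomm s hsf⟩
  let t₂ : Subgroup.centralizer ({z} : Set G) := ⟨c * s' * c⁻¹, hcomm s' hs'f⟩
  have h1 : t₁ ^ 2 = 1 := Subtype.ext (conj_sq s hs2)
  have h2 : t₂ ^ 2 = 1 := Subtype.ext (conj_sq s' hs2')
  have h3 := hodd _ (hsq t₁ t₂ h1 h2)
  rw [← Subgroup.orderOf_coe] at h3
  have h4 : (((t₁ * t₂) ^ 2 : Subgroup.centralizer ({z} : Set G)) : G) = c * g ^ 2 * c⁻¹ := by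
    simp only [t₁, t₂, Subgroup.coe_pow, Subgroup.coe_mul]
    rw [hg, ← conj_pow]
    group
  rw [h4, orderOf_conj] at h3
  exact (Nat.not_even_iff_odd.mpr h3) (even_iff_two_dvd.mpr hd)

end Orders

section Beta

variable {A : Type*} [Group A] [Fintype A] [Fintype (IrrCharacter A)]

/-- A nontrivial character trivial on all involutions. -/
theorem exists_beta (hc : ∀ a b : A, a * b = b * a) {x : A} (hx : x ^ 2 ≠ 1) :
    ∃ β₀ : IrrCharacter A, β₀ ≠ oneI A ∧ ∀ u : A, u ^ 2 = 1 → (β₀ : A → ℂ) u = 1 := by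
  classical
  obtain ⟨γ, hγ⟩ : ∃ γ : IrrCharacter A, (γ : A → ℂ) (x ^ 2) ≠ 1 := by
    by_contra hcon
    push Not at hcon
    have h1 := sum_col hc (x ^ 2) 1
    rw [if_neg hx] at h1
    simp only [hcon, val_one hc, map_one, mul_one, Finset.sum_const, Finset.card_univ, nsmul_eq_mul] at h1
    have h2 : Fintype.card (IrrCharacter A) = 0 := by exact_mod_cast h1
    rw [card_irr hc] at h2
    exact Nat.card_pos.ne' h2
  obtain ⟨lam, hlam⟩ := exists_hom_of_deg_one (isCharacter_of_isIrrCharacter γ.2) (val_one hc γ)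
  have hγv : ∀ a : A, (γ : A → ℂ) a = (lam a : ℂ) := fun a => by rw [hlam]
  have hsq : ∀ a : A, (γ : A → ℂ) (a ^ 2) = ((lam a ^ 2 : ℂˣ) : ℂ) := by
    intro a
    rw [hγv, map_pow]
  let β₀ : IrrCharacter A := ⟨fun a => (((powMonoidHom 2).comp lam) a : ℂˣ),
    isIrrCharacter_of_hom _⟩
  have hβ : ∀ a : A, (β₀ : A → ℂ) a = (γ : A → ℂ) (a ^ 2) := by
    intro a
    rw [hsq]
    rfl
  refine ⟨β₀, ?_, ?_⟩
  · intro h
    apply hγ
    rw [← hβ, h, oneI_apply]
  · intro u hu
    rw [hβ, hu, val_one hc]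

end Beta

section Main

variable {G : Type*} [Group G] [Fintype G] {P : Sylow 2 G} {m : ℕ}

open Cfsg.Agent.Lib.Blocks.PPart

theorem card_P (e : (P : Subgroup G) ≃* Multiplicative (ZMod (2 ^ m) × ZMod (2 ^ m))) :
    Nat.card (P : Subgroup G) = 2 ^ m * 2 ^ m := by
  haveI : NeZero (2 ^ m) := ⟨by positivity⟩
  rw [Nat.card_congr e.toEquiv,
    Nat.card_congr (Multiplicative.toAdd : Multiplicative (ZMod (2 ^ m) × ZMod (2 ^ m)) ≃ _),
    Nat.card_prod, Nat.card_zmod]

theorem exists_sq_ne_one (hm : 2 ≤ m) (e : (P : Subgroup G) ≃* Multiplicative (ZMod (2 ^ m) × ZMod (2 ^ m))) :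
    ∃ x : (P : Subgroup G), x ^ 2 ≠ 1 := by
  haveI : NeZero (2 ^ m) := ⟨by positivity⟩
  refine ⟨e.symm (Multiplicative.ofAdd (1, 0)), fun h => ?_⟩
  have h1 := congrArg e h
  rw [map_pow, MulEquiv.apply_symm_apply, map_one, ← ofAdd_nsmul, ofAdd_eq_one, Prod.ext_iff] at h1
  have h2 : ((2 : ℕ) : ZMod (2 ^ m)) = 0 := by
    have := h1.1
    simpa using this
  rw [ZMod.natCast_eq_zero_iff] at h2
  have h3 := Nat.le_of_dvd (by norm_num) h2
  have h4 : 2 ^ 2 ≤ 2 ^ m := Nat.pow_le_pow_right (by norm_num) hm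
  omega

/-- The value at a product of two conjugates of an involution `z`. -/
theorem val_product {M : Ideal AlgInt} (hM : IsPModular 2 M) (hm : 1 ≤ m)
    (e : (P : Subgroup G) ≃* Multiplicative (ZMod (2 ^ m) × ZMod (2 ^ m)))
    (hone : ∀ s t : G, orderOf s = 2 → orderOf t = 2 → IsConj s t) {z : G} (hzP : z ∈ (P : Subgroup G))
    (hz : orderOf z = 2) (g : G) :
    ¬ 2 ∣ orderOf (z * (g * z * g⁻¹)) ∨ ∀ ζ ∈ principalBlock M G,
      (ζ : G → ℂ) (z * (g * z * g⁻¹)) = (ζ : G → ℂ) z := by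
  classical
  haveI := isPrime_of_pModular hM
  have := Cfsg.Agent.Lib.Char.Ortho.finite_irrCharacter (G := G)
  letI := Fintype.ofFinite (IrrCharacter G)
  set u := z * (g * z * g⁻¹) with hu
  obtain ⟨x, y, hxy, hcomm, hxo, hyo⟩ := exists_pPart_y (p := 2) u
  by_cases hx1 : x = 1
  · left
    rw [← hxy, hx1, one_mul]
    exact hyo
  right
  intro ζ hζ
  have hz1 : z ≠ 1 := by
    rintro rfl
    rw [orderOf_one] at hz
    norm_num at hz
  -- `x` is an involution
  have hd := odd_orderOf_sq hm e hone hzP hz hz (by rw [orderOf_conj]; exact hz) (s' := g * z * g⁻¹)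
  rw [← hu] at hd
  have hpp : IsPPart 2 u x := ⟨y, hxy, hcomm, hxo, hyo⟩
  obtain ⟨j, hj⟩ := Subgroup.mem_zpowers_iff.mp (isPPart_mem_zpowers hpp)
  obtain ⟨k, hk⟩ := hxo
  have hx2 : x ^ 2 = 1 := by
    have hcop : (2 ^ k).Coprime (orderOf (u ^ 2)) :=
      Nat.Coprime.pow_left _ ((Nat.Prime.coprime_iff_not_dvd Nat.prime_two).mpr hd)
    have h1 : orderOf (x ^ 2) ∣ 2 ^ k := by
      apply orderOf_dvd_of_pow_eq_one
      rw [← pow_mul, mul_comm, pow_mul, ← hk, pow_orderOf_eq_one, one_pow]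
    have h2 : orderOf (x ^ 2) ∣ orderOf (u ^ 2) := by
      apply orderOf_dvd_of_pow_eq_one
      rw [← hj, ← zpow_natCast, ← zpow_natCast, ← zpow_mul, ← zpow_mul]
      have h3 : (u ^ 2) ^ orderOf (u ^ 2) = 1 := pow_orderOf_eq_one _
      have h4 : u ^ (((2 : ℕ) : ℤ) * ((orderOf (u ^ 2) : ℕ) : ℤ)) = 1 := by
        rw [zpow_mul, zpow_natCast, zpow_natCast, h3]
      calc u ^ (j * (((2 : ℕ) : ℤ) * ((orderOf (u ^ 2) : ℕ) : ℤ)))
          = (u ^ (((2 : ℕ) : ℤ) * ((orderOf (u ^ 2) : ℕ) : ℤ))) ^ j := by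
            rw [← zpow_mul]
            congr 1
            ring
        _ = 1 := by rw [h4, one_zpow]
    exact orderOf_eq_one_iff.mp (Nat.eq_one_of_dvd_coprimes hcop h1 h2)
  have hxo2 : orderOf x = 2 := orderOf_eq_prime hx2 hx1
  obtain ⟨c, hc⟩ := isConj_iff.mp (hone _ _ hxo2 hz)
  set y' := c * y * c⁻¹ with hy'
  have hy'C : y' ∈ Subgroup.centralizer ({z} : Set G) := by
    rw [Subgroup.mem_centralizer_singleton_iff, ← hc, hy']
    calc c * y * c⁻¹ * (c * x * c⁻¹) = c * (y * x) * c⁻¹ := by group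
      _ = c * (x * y) * c⁻¹ := by rw [hcomm.eq]
      _ = _ := by group
  have hy'o : ¬ 2 ∣ orderOf (⟨y', hy'C⟩ : Subgroup.centralizer ({z} : Set G)) := by
    rw [Subgroup.orderOf_mk, hy', orderOf_conj]
    exact hyo
  obtain ⟨k', hk'⟩ := index_core hm e hzP hz1
  haveI : (Cfsg.pPrimeCore 2 (Subgroup.centralizer ({z} : Set G))).Normal :=
    Cfsg.pPrimeCore_normal _ _
  have hmem := mem_of_odd hk' hy'o
  have hz' : ∃ k : ℕ, orderOf z = 2 ^ k := ⟨1, by rw [hz, pow_one]⟩
  have h5 := Cfsg.Agent.Lib.Blocks.General.zstar hM hz' hmem hζ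
  rw [← h5, ← hxy]
  have h6 : z * y' = c * (x * y) * c⁻¹ := by
    rw [← hc, hy']
    group
  simp only [h6]
  exact (isClassFunction_of_isIrrCharacter ζ.2 _ _).symm

/-- **The main theorem.** -/
theorem exists_linear_of_not_mem (hm : 2 ≤ m)
    (e : (P : Subgroup G) ≃* Multiplicative (ZMod (2 ^ m) × ZMod (2 ^ m)))
    (n : Subgroup.normalizer ((P : Subgroup G) : Set G))
    (hn : (n : G) ∉ Subgroup.centralizer ((P : Subgroup G) : Set G)) :
    ∃ ψ : IrrCharacter G, ψ ≠ oneI G ∧ (ψ : G → ℂ) 1 = 1 ∧ ∀ x ∈ (P : Subgroup G), (ψ : G → ℂ) x = 1 := by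
  classical
  obtain ⟨M, hM⟩ := Cfsg.Agent.Lib.BlockH.Basic.exists_isPModular Nat.prime_two
  haveI := isPrime_of_pModular hM
  have := Cfsg.Agent.Lib.Char.Ortho.finite_irrCharacter (G := G)
  letI := Fintype.ofFinite (IrrCharacter G)
  letI : Fintype (P : Subgroup G) := Fintype.ofFinite _
  have := Cfsg.Agent.Lib.Char.Ortho.finite_irrCharacter (G := (P : Subgroup G))
  letI := Fintype.ofFinite (IrrCharacter (P : Subgroup G))
  have hm1 : 1 ≤ m := by omega
  have hab := abelian_of_equiv e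
  have hc : ∀ a b : (P : Subgroup G), a * b = b * a := by
    intro a b
    exact Subtype.ext (hab _ a.2 _ b.2)
  have hone := isConj_of_not_mem hm1 e n hn
  set T : Finset (IrrCharacter G) := Finset.univ.filter (· ∈ principalBlock M G) with hT
  have hTmem : ∀ χ, χ ∈ T ↔ χ ∈ principalBlock M G := fun χ => by simp [hT]
  have hTset : (T : Set (IrrCharacter G)) = principalBlock M G := by
    ext χ
    simp [hT]
  have hone1 : oneI G ∈ T := (hTmem _).mpr (mem_blockOf_self (oneI G))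
  have hPcard := card_P e
  have h16 : 16 ∣ Nat.card (P : Subgroup G) := by
    rw [hPcard, show 16 = 2 ^ 2 * 2 ^ 2 by norm_num]
    exact mul_dvd_mul (pow_dvd_pow 2 hm) (pow_dvd_pow 2 hm)
  have horder : ∀ x : (P : Subgroup G), x ≠ 1 → 2 ∣ orderOf (x : G) := by
    intro x hx
    obtain ⟨j, hj⟩ := Cfsg.Agent.Lib.Blocks.Third.orderOf_of_mem_isPGroup P.isPGroup' x.2
    have hj0 : j ≠ 0 := by
      rintro rfl
      rw [pow_zero, orderOf_eq_one_iff] at hj
      exact hx (Subtype.ext hj)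
    rw [hj]
    exact dvd_pow_self 2 hj0
  have hK : ∀ (_ : DecidableEq (P : Subgroup G)) (x x' : (P : Subgroup G)), x ≠ 1 → x' ≠ 1 →
      ∑ ζ ∈ T, (ζ : G → ℂ) x * conj ((ζ : G → ℂ) x') =
      (Nat.card (P : Subgroup G) : ℂ) * ∑ a : Fin 3, if x' = (tauOf n ^ (a : ℕ)) x then 1 else 0 := by
    intro inst x x' hx hx'
    have h1 : (∑ a : Fin 3, if x' = (tauOf n ^ (a : ℕ)) x then (1 : ℂ) else 0) =
        if IsConj (x : G) (x' : G) then 1 else 0 := by
      convert sum_ite_tau hm1 e hn hx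
    rw [h1]
    have hxo : ∃ k : ℕ, orderOf (x : G) = 2 ^ k :=
      Cfsg.Agent.Lib.Blocks.Third.orderOf_of_mem_isPGroup P.isPGroup' x.2
    have hxo' : ∃ k : ℕ, orderOf (x' : G) = 2 ^ k :=
      Cfsg.Agent.Lib.Blocks.Third.orderOf_of_mem_isPGroup P.isPGroup' x'.2
    have hx1 : (x : G) ≠ 1 := fun h => hx (Subtype.ext h)
    split_ifs with hconj
    · obtain ⟨c, hc'⟩ := isConj_iff.mp hconj
      have h2 : ∀ ζ : IrrCharacter G, (ζ : G → ℂ) x' = (ζ : G → ℂ) x := by
        intro ζ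
        rw [← hc']
        exact isClassFunction_of_isIrrCharacter ζ.2 _ _
      simp only [h2, mul_one]
      have hnorm := (Cfsg.Agent.Lib.Blocks.NormSum.principal_norm_sum hM (x : G) hxo
        (1 : Subgroup.centralizer ({(x : G)} : Set G)) (by simp)).2 (index_core hm1 e x.2 hx1)
      obtain ⟨-, -, -, -, -, -, hfac⟩ := exists_ker hm1 e x.2 hx1
      rw [hfac, ← hTset, finsum_mem_coe_finset] at hnorm
      simp only [Subgroup.coe_one, mul_one] at hnorm
      have h3 : ∀ ζ : IrrCharacter G, (ζ : G → ℂ) x * conj ((ζ : G → ℂ) x) =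
          ((‖(ζ : G → ℂ) x‖ ^ 2 : ℝ) : ℂ) := by
        intro ζ
        rw [Complex.mul_conj']
        push_cast
        rfl
      simp only [h3]
      rw [← Complex.ofReal_sum, hnorm]
      simp
    · have hpp : ∀ w : G, (∃ k : ℕ, orderOf w = 2 ^ k) → IsPPart 2 w w := by
        intro w hw
        exact ⟨1, mul_one w, Commute.one_right w, hw, by simp⟩
      have h2 := Cfsg.Agent.Lib.Blocks.Heights.block_orthogonality_section hM (hpp _ hxo) (hpp _ hxo')
        hconj (isPBlock_principal (G := G) M)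
      rw [← hTset, finsum_mem_coe_finset] at h2
      simp only [mul_zero]
      rw [← h2]
      refine Finset.sum_congr rfl fun ζ _ => ?_
      rw [Cfsg.Agent.Lib.Char.Ortho.char_inv_eq_conj (isCharacter_of_isIrrCharacter ζ.2)]
  have hR : ∀ y : G, ¬ 2 ∣ orderOf y → ∀ x' : (P : Subgroup G), x' ≠ 1 →
      ∑ ζ ∈ T, (ζ : G → ℂ) y * conj ((ζ : G → ℂ) x') = 0 := by
    intro y hy x' hx'
    have h1 := Cfsg.Agent.Lib.Blocks.Weak.sum_block_eq_zero hM (isPBlock_principal (G := G) M) y x' hy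
      (horder x' hx')
    rw [← Finset.sum_filter] at h1
    exact h1
  obtain ⟨x₀, hx₀⟩ := exists_sq_ne_one hm e
  obtain ⟨β₀, hβ₀, hβ₀u⟩ := exists_beta hc hx₀
  obtain ⟨z, hz⟩ : ∃ z : (P : Subgroup G), orderOf z = 2 := by
    refine exists_prime_orderOf_dvd_card' 2 ?_
    rw [hPcard]
    exact (dvd_pow_self 2 (by omega)).mul_right _
  have hz1 : z ≠ 1 := by
    rintro rfl
    rw [orderOf_one] at hz
    norm_num at hz
  have hz2 : z ^ 2 = 1 := orderOf_dvd_iff_pow_eq_one.mp hz.dvd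
  have hzG : orderOf (z : G) = 2 := by
    rw [Subgroup.orderOf_coe]
    exact hz
  obtain ⟨ψ, h1, h2, h3⟩ := abstract_main (T := T) (τ := tauOf n) hc hone1 (tau_cube hm1 e hn)
    (tau_fix hm1 e hn) hK hR h16 β₀ hβ₀ z hz1
    (fun a => hβ₀u _ (by rw [← map_pow, hz2, map_one]))
    (fun g => (val_product hM hm1 e hone z.2 hzG g).imp id
      (fun h ζ hζ => h ζ ((hTmem _).mp hζ)))
  exact ⟨ψ, h1, h2, fun x hx => h3 ⟨x, hx⟩⟩

end Main

end Cfsg.Agent.Lib.BlockT.HomoLocal
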